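import Cfsg.Agent.Lib.SU32.Derived
import Cfsg.Agent.Lib.AutPSU.Descent
import Cfsg.Agent.Lib.Unitary.Basic
import Mathlib.GroupTheory.Perm.Sign
import Mathlib.GroupTheory.SpecificGroups.Alternating
import Mathlib.LinearAlgebra.Matrix.Permutation

/-!
Monomial and block-diagonal elements of the six-dimensional special unitary group over four elements.
-/

set_option autoImplicit false

namespace Cfsg.Agent.Lib.U43InU62

open Cfsg Matrix

/-- The field with four elements. -/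
abbrev K4 : Type := SU32.Derived.F4

/-- The element with a given code. -/
abbrev k4 (n : ℕ) : K4 := SU32.Derived.e n

/-- A primitive cube root of unity. -/
def om : K4 := k4 2

/-- The six-dimensional special unitary group. -/
abbrev G6 := SU 6 K4 2

/-- The matrix of an element. -/
abbrev mat (x : G6) : Matrix (Fin 6) (Fin 6) K4 := x.1.1

theorem card_k4 : Fintype.card K4 = 2 ^ 2 := by decide +kernel

theorem k4_cube : ∀ a : K4, a ≠ 0 → a ^ 3 = 1 := by decide +kernel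

theorem k4_neg_one : (-1 : K4) = 1 := by decide +kernel

theorem k4_herm : ∀ a : K4, a ≠ 0 → a * a ^ 2 = 1 := by decide +kernel

theorem mat_mul (x y : G6) : mat (x * y) = mat x * mat y := rfl

theorem mat_one : mat (1 : G6) = 1 := rfl

theorem mat_injective : Function.Injective mat := fun _ _ h => Subtype.ext (Subtype.ext h)

theorem mat_inv_mul (x : G6) : mat x⁻¹ * mat x = 1 := by
  rw [← mat_mul, inv_mul_cancel, mat_one]

theorem mat_mul_inv (x : G6) : mat x * mat x⁻¹ = 1 := by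
  rw [← mat_mul, mul_inv_cancel, mat_one]

theorem mat_herm (x : G6) (u v : Fin 6 → K4) :
    hermForm 6 K4 2 (mat x *ᵥ u) (mat x *ᵥ v) = hermForm 6 K4 2 u v := x.2 u v

theorem det_mat (x : G6) : (mat x).det = 1 := x.1.2

instance finite_g6 : Finite G6 := Finite.of_injective mat mat_injective

/-! ### Monomial matrices -/

/-- A monomial matrix. -/
def monM {n : ℕ} (c : Fin n → K4) (σ : Equiv.Perm (Fin n)) : Matrix (Fin n) (Fin n) K4 :=
  Matrix.of fun i j => if σ j = i then c i else 0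

theorem monM_apply {n : ℕ} (c : Fin n → K4) (σ : Equiv.Perm (Fin n)) (i j : Fin n) :
    monM c σ i j = if σ j = i then c i else 0 := rfl

theorem monM_one {n : ℕ} : monM (1 : Fin n → K4) 1 = 1 := by
  ext i j
  simp only [monM_apply, Matrix.one_apply, Equiv.Perm.one_apply, Pi.one_apply, eq_comm]

theorem monM_mul {n : ℕ} (c d : Fin n → K4) (σ ρ : Equiv.Perm (Fin n)) :
    monM c σ * monM d ρ = monM (fun i => c i * d (σ⁻¹ i)) (σ * ρ) := by
  ext i j
  rw [Matrix.mul_apply, Finset.sum_eq_single (ρ j)]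
  · simp only [monM_apply, Equiv.Perm.mul_apply, if_true]
    by_cases h : σ (ρ j) = i
    · simp [← h]
    · simp [h]
  · intro b _ hb
    simp [monM_apply, Ne.symm hb]
  · simp

theorem monM_diag {n : ℕ} (c : Fin n → K4) : monM c 1 = Matrix.diagonal c := by
  ext i j
  simp only [monM_apply, Matrix.diagonal_apply, Equiv.Perm.one_apply, eq_comm]

theorem monM_injective {n : ℕ} {c d : Fin n → K4} {σ ρ : Equiv.Perm (Fin n)}
    (hc : ∀ i, c i ≠ 0) (h : monM c σ = monM d ρ) : c = d ∧ σ = ρ := by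
  have key : ∀ j, σ j = ρ j ∧ c (σ j) = d (σ j) := by
    intro j
    have e := congrFun (congrFun h (σ j)) j
    simp only [monM_apply, if_true] at e
    by_cases g : ρ j = σ j
    · rw [if_pos g] at e; exact ⟨g.symm, e⟩
    · rw [if_neg g] at e; exact absurd e (hc _)
  refine ⟨funext fun i => ?_, Equiv.ext fun j => (key j).1⟩
  simpa using (key (σ⁻¹ i)).2

theorem det_monM {n : ℕ} (c : Fin n → K4) (σ : Equiv.Perm (Fin n)) :
    (monM c σ).det = ∏ i, c i := by
  have e : monM c σ = Matrix.diagonal c * σ⁻¹.permMatrix K4 := by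
    ext i j
    rw [Matrix.diagonal_mul, monM_apply]
    simp only [Equiv.Perm.permMatrix, PEquiv.toMatrix_apply, Equiv.toPEquiv_apply,
      Option.mem_def, Option.some.injEq, mul_ite, mul_one, mul_zero]
    refine if_congr ⟨fun h => ?_, fun h => ?_⟩ rfl rfl
    · rw [← h]; simp
    · rw [← h]; simp
  rw [e, Matrix.det_mul, Matrix.det_diagonal, Matrix.det_permutation]
  rcases Int.units_eq_one_or (Equiv.Perm.sign σ⁻¹) with h | h <;> rw [h] <;> simp [k4_neg_one]

theorem monM_preserving {n : ℕ} {c : Fin n → K4} (σ : Equiv.Perm (Fin n)) (hc : ∀ i, c i ≠ 0)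
    (u v : Fin n → K4) :
    hermForm n K4 2 (monM c σ *ᵥ u) (monM c σ *ᵥ v) = hermForm n K4 2 u v := by
  have hv : ∀ (w : Fin n → K4) (i : Fin n), (monM c σ *ᵥ w) i = c i * w (σ⁻¹ i) := by
    intro w i
    rw [Matrix.mulVec, dotProduct, Finset.sum_eq_single (σ⁻¹ i)]
    · simp [monM_apply]
    · intro b _ hb
      rw [monM_apply, if_neg, zero_mul]
      intro h
      exact hb (by rw [← h]; simp)
    · simp
  simp only [hermForm, hv]
  rw [← Equiv.sum_comp σ fun i => c i * u (σ⁻¹ i) * (c i * v (σ⁻¹ i)) ^ 2]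
  refine Finset.sum_congr rfl fun i _ => ?_
  simp only [Equiv.Perm.coe_inv, Equiv.symm_apply_apply]
  linear_combination u i * v i ^ 2 * k4_herm _ (hc (σ i))

/-- A monomial element of the group. -/
def monS (c : Fin 6 → K4) (σ : Equiv.Perm (Fin 6)) (hc : ∀ i, c i ≠ 0) (hp : ∏ i, c i = 1) : G6 :=
  ⟨⟨monM c σ, (det_monM c σ).trans hp⟩, fun u v => monM_preserving σ hc u v⟩

@[simp] theorem mat_monS (c : Fin 6 → K4) (σ : Equiv.Perm (Fin 6)) (hc : ∀ i, c i ≠ 0)
    (hp : ∏ i, c i = 1) : mat (monS c σ hc hp) = monM c σ := rfl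

/-- Monomial with permutation in a given set and coefficients in a given set. -/
def IsMon (U : Set (Equiv.Perm (Fin 6))) (Q : (Fin 6 → K4) → Prop) (x : G6) : Prop :=
  ∃ (c : Fin 6 → K4) (σ : Equiv.Perm (Fin 6)),
    σ ∈ U ∧ (∀ i, c i ≠ 0) ∧ Q c ∧ mat x = monM c σ

theorem IsMon.prod {U : Set (Equiv.Perm (Fin 6))} {Q : (Fin 6 → K4) → Prop} {x : G6}
    {c : Fin 6 → K4} {σ : Equiv.Perm (Fin 6)} (_ : IsMon U Q x) (h : mat x = monM c σ) :
    ∏ i, c i = 1 := by
  rw [← det_monM c σ, ← h, det_mat]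

theorem prod_of_mat {x : G6} {c : Fin 6 → K4} {σ : Equiv.Perm (Fin 6)}
    (h : mat x = monM c σ) : ∏ i, c i = 1 := by
  rw [← det_monM c σ, ← h, det_mat]

/-- The monomial elements with restricted permutations and coefficients form a subgroup. -/
def monSub (U : Subgroup (Equiv.Perm (Fin 6))) (Q : (Fin 6 → K4) → Prop) (h1 : Q 1)
    (hQ : ∀ c d σ, σ ∈ U → Q c → Q d → Q fun i => c i * d (σ⁻¹ i)) : Subgroup G6 where
  carrier := {x | IsMon (U : Set _) Q x}
  one_mem' := ⟨1, 1, U.one_mem, fun _ => one_ne_zero, h1, monM_one.symm⟩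
  mul_mem' := by
    rintro x y ⟨c, σ, hσ, hc, qc, ex⟩ ⟨d, ρ, hρ, hd, qd, ey⟩
    exact ⟨_, σ * ρ, U.mul_mem hσ hρ, fun i => mul_ne_zero (hc _) (hd _), hQ c d σ hσ qc qd,
      by rw [mat_mul, ex, ey, monM_mul]⟩
  inv_mem' := by
    intro x hx
    let M : Submonoid G6 :=
      { carrier := {x | IsMon (U : Set _) Q x}
        one_mem' := ⟨1, 1, U.one_mem, fun _ => one_ne_zero, h1, monM_one.symm⟩
        mul_mem' := by
          rintro x y ⟨c, σ, hσ, hc, qc, ex⟩ ⟨d, ρ, hρ, hd, qd, ey⟩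
          exact ⟨_, σ * ρ, U.mul_mem hσ hρ, fun i => mul_ne_zero (hc _) (hd _),
            hQ c d σ hσ qc qd, by rw [mat_mul, ex, ey, monM_mul]⟩ }
    have h : x⁻¹ ∈ Submonoid.powers x := mem_powers_iff_mem_zpowers.2
      (inv_mem (Subgroup.mem_zpowers x))
    obtain ⟨k, hk⟩ := h
    show x⁻¹ ∈ M
    rw [← hk]
    exact pow_mem (show x ∈ M from hx) k

theorem mem_monSub {U : Subgroup (Equiv.Perm (Fin 6))} {Q : (Fin 6 → K4) → Prop} {h1 hQ}
    {x : G6} : x ∈ monSub U Q h1 hQ ↔ IsMon (U : Set _) Q x := Iff.rfl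

/-- The order of such a subgroup. -/
theorem card_monSub (U : Subgroup (Equiv.Perm (Fin 6))) (Q : (Fin 6 → K4) → Prop) (h1 hQ) :
    Nat.card (monSub U Q h1 hQ) =
      Nat.card U * Nat.card {c : Fin 6 → K4 // (∀ i, c i ≠ 0) ∧ ∏ i, c i = 1 ∧ Q c} := by
  rw [← Nat.card_prod]
  symm
  refine Nat.card_congr (Equiv.ofBijective
    (fun p => ⟨monS p.2.1 p.1.1 p.2.2.1 p.2.2.2.1, p.2.1, p.1.1, p.1.2, p.2.2.1, p.2.2.2.2,
      mat_monS _ _ _ _⟩) ⟨?_, ?_⟩)
  · rintro ⟨⟨σ, hσ⟩, ⟨c, hc⟩⟩ ⟨⟨ρ, hρ⟩, ⟨d, hd⟩⟩ h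
    have h' := congrArg (fun z : monSub U Q h1 hQ => mat z.1) h
    obtain ⟨rfl, rfl⟩ := monM_injective hc.1 h'
    rfl
  · rintro ⟨x, c, σ, hσ, hc, qc, ex⟩
    exact ⟨(⟨σ, hσ⟩, ⟨c, hc, prod_of_mat ex, qc⟩), Subtype.ext (mat_injective ex.symm)⟩

/-! ### The named subgroups -/

/-- The first three-cycle. -/
def u1 : Equiv.Perm (Fin 6) := Equiv.swap 0 1 * Equiv.swap 1 2

/-- The second three-cycle. -/
def u2 : Equiv.Perm (Fin 6) := Equiv.swap 3 4 * Equiv.swap 4 5

/-- The group of order nine of permutations. -/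
def U9 : Subgroup (Equiv.Perm (Fin 6)) where
  carrier := {σ | ∃ a b : Fin 3, σ = u1 ^ a.1 * u2 ^ b.1}
  one_mem' := ⟨0, 0, by simp⟩
  mul_mem' := by
    rintro _ _ ⟨a, b, rfl⟩ ⟨c, d, rfl⟩
    revert a b c d
    decide +kernel
  inv_mem' := by
    rintro _ ⟨a, b, rfl⟩
    revert a b
    decide +kernel

/-- The monomial group. -/
def Mon : Subgroup G6 := monSub ⊤ (fun _ => True) trivial fun _ _ _ _ _ _ => trivial

/-- The frame group extended by the alternating group. -/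
def H : Subgroup G6 :=
  monSub (alternatingGroup (Fin 6)) (fun _ => True) trivial fun _ _ _ _ _ _ => trivial

/-- The diagonal group. -/
def T : Subgroup G6 := monSub ⊥ (fun _ => True) trivial fun _ _ _ _ _ _ => trivial

/-- A Sylow 3-subgroup. -/
def S : Subgroup G6 := monSub U9 (fun _ => True) trivial fun _ _ _ _ _ _ => trivial

/-- The first three coefficients have product one. -/
def BlockOne (c : Fin 6 → K4) : Prop := c 0 * c 1 * c 2 = 1

theorem blockOne_mul (c d : Fin 6 → K4) (σ : Equiv.Perm (Fin 6)) (hσ : σ ∈ U9) (hc : BlockOne c)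
    (hd : BlockOne d) : BlockOne fun i => c i * d (σ⁻¹ i) := by
  obtain ⟨a, b, rfl⟩ := hσ
  have key : ∀ a b : Fin 3,
      ((u1 ^ a.1 * u2 ^ b.1)⁻¹ 0 = 0 ∧ (u1 ^ a.1 * u2 ^ b.1)⁻¹ 1 = 1 ∧
        (u1 ^ a.1 * u2 ^ b.1)⁻¹ 2 = 2) ∨
      ((u1 ^ a.1 * u2 ^ b.1)⁻¹ 0 = 1 ∧ (u1 ^ a.1 * u2 ^ b.1)⁻¹ 1 = 2 ∧
        (u1 ^ a.1 * u2 ^ b.1)⁻¹ 2 = 0) ∨
      ((u1 ^ a.1 * u2 ^ b.1)⁻¹ 0 = 2 ∧ (u1 ^ a.1 * u2 ^ b.1)⁻¹ 1 = 0 ∧
        (u1 ^ a.1 * u2 ^ b.1)⁻¹ 2 = 1) := by decide +kernel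
  simp only [BlockOne] at hc hd ⊢
  rcases key a b with ⟨e0, e1, e2⟩ | ⟨e0, e1, e2⟩ | ⟨e0, e1, e2⟩ <;> rw [e0, e1, e2] <;>
    linear_combination d 0 * d 1 * d 2 * hc + hd

/-- The subgroup of index three in the Sylow subgroup. -/
def R : Subgroup G6 := monSub U9 BlockOne (by simp [BlockOne]) blockOne_mul

theorem H_le_Mon : H ≤ Mon := fun _ ⟨c, σ, _, hc, q, e⟩ => ⟨c, σ, trivial, hc, q, e⟩

theorem T_le_H : T ≤ H := fun _ ⟨c, σ, hσ, hc, q, e⟩ =>
  ⟨c, σ, by rw [Subgroup.mem_bot.1 hσ]; exact one_mem _, hc, q, e⟩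

theorem U9_le : U9 ≤ alternatingGroup (Fin 6) := by
  rintro _ ⟨a, b, rfl⟩
  revert a b
  simp only [Equiv.Perm.mem_alternatingGroup]
  decide +kernel

theorem S_le_H : S ≤ H := fun _ ⟨c, σ, hσ, hc, q, e⟩ => ⟨c, σ, U9_le hσ, hc, q, e⟩

theorem R_le_S : R ≤ S := fun _ ⟨c, σ, hσ, hc, _, e⟩ => ⟨c, σ, hσ, hc, trivial, e⟩

theorem T_le_S : T ≤ S := fun _ ⟨c, σ, hσ, hc, q, e⟩ =>
  ⟨c, σ, by rw [Subgroup.mem_bot.1 hσ]; exact one_mem _, hc, q, e⟩

/-! ### Block diagonal matrices -/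

/-- Two blocks along the diagonal. -/
def blkM (A B : Matrix (Fin 3) (Fin 3) K4) : Matrix (Fin 6) (Fin 6) K4 :=
  Matrix.reindex finSumFinEquiv finSumFinEquiv (Matrix.fromBlocks A 0 0 B)

theorem blkM_mul (A B A' B' : Matrix (Fin 3) (Fin 3) K4) :
    blkM A B * blkM A' B' = blkM (A * A') (B * B') := by
  simp only [blkM, Matrix.reindex_apply]
  rw [Matrix.submatrix_mul_equiv, Matrix.fromBlocks_multiply]
  simp

theorem blkM_one : blkM 1 1 = 1 := by
  simp [blkM]

theorem det_blkM (A B : Matrix (Fin 3) (Fin 3) K4) : (blkM A B).det = A.det * B.det := by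
  rw [blkM, Matrix.det_reindex_self, Matrix.det_fromBlocks_zero₂₁]

/-- A three by three matrix is unitary: the conjugate transpose is a left inverse. -/
def Unit3 (A : Matrix (Fin 3) (Fin 3) K4) : Prop :=
  Matrix.of (fun i j => A j i ^ 2) * A = 1

theorem blkM_preserving {A B : Matrix (Fin 3) (Fin 3) K4} (hA : Unit3 A) (hB : Unit3 B)
    (u v : Fin 6 → K4) :
    hermForm 6 K4 2 (blkM A B *ᵥ u) (blkM A B *ᵥ v) = hermForm 6 K4 2 u v := by
  refine (AutPSU.preserving_iff_ct card_k4 (blkM A B)).2 ?_ u v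
  have e : AutPSU.ct card_k4 (blkM A B) =
      blkM (Matrix.of fun i j => A j i ^ 2) (Matrix.of fun i j => B j i ^ 2) := by
    simp only [AutPSU.ct, blkM, Matrix.reindex_apply]
    rw [← Matrix.submatrix_map, Matrix.transpose_submatrix, Matrix.fromBlocks_map,
      Matrix.fromBlocks_transpose]
    congr 2
  rw [e, blkM_mul, hA, hB, blkM_one]

/-- A block diagonal element of the group. -/
def blkS (A B : Matrix (Fin 3) (Fin 3) K4) (hA : Unit3 A) (hB : Unit3 B)
    (hd : A.det * B.det = 1) : G6 :=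
  ⟨⟨blkM A B, (det_blkM A B).trans hd⟩, fun u v => blkM_preserving hA hB u v⟩

@[simp] theorem mat_blkS (A B : Matrix (Fin 3) (Fin 3) K4) (hA : Unit3 A) (hB : Unit3 B)
    (hd : A.det * B.det = 1) : mat (blkS A B hA hB hd) = blkM A B := rfl

/-! ### Scaling the first coordinate -/

/-- A diagonal unitary matrix of determinant `om ^ e`. -/
def dlt (e : Fin 3) : Fin 6 → K4 := fun i => if i = 0 then om ^ e.1 else 1

theorem dlt_ne : ∀ e i, dlt e i ≠ 0 := by decide +kernel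

theorem dlt_mul_neg : ∀ e i, dlt e i * dlt (-e) i = 1 := by decide +kernel

theorem dlt_conj (e : Fin 3) : monM (dlt e) 1 * monM (dlt (-e)) 1 = 1 := by
  rw [monM_mul, ← monM_one]
  congr 1
  funext i
  simpa using dlt_mul_neg e i

/-- Conjugation by the diagonal matrix. -/
def cd (e : Fin 3) : G6 ≃* G6 where
  toFun x := ⟨⟨monM (dlt e) 1 * mat x * monM (dlt (-e)) 1, by
    rw [Matrix.det_mul, Matrix.det_mul, det_mat, mul_one, ← Matrix.det_mul, dlt_conj, Matrix.det_one]⟩,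
    fun u v => by
      show hermForm 6 K4 2 ((monM (dlt e) 1 * mat x * monM (dlt (-e)) 1) *ᵥ u)
        ((monM (dlt e) 1 * mat x * monM (dlt (-e)) 1) *ᵥ v) = hermForm 6 K4 2 u v
      rw [← Matrix.mulVec_mulVec, ← Matrix.mulVec_mulVec, ← Matrix.mulVec_mulVec,
        ← Matrix.mulVec_mulVec, monM_preserving _ (dlt_ne e), mat_herm,
        monM_preserving _ (dlt_ne (-e))]⟩
  invFun x := ⟨⟨monM (dlt (-e)) 1 * mat x * monM (dlt e) 1, by
    rw [Matrix.det_mul, Matrix.det_mul, det_mat, mul_one, ← Matrix.det_mul]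
    have := dlt_conj (-e); rw [neg_neg] at this; rw [this, Matrix.det_one]⟩,
    fun u v => by
      show hermForm 6 K4 2 ((monM (dlt (-e)) 1 * mat x * monM (dlt e) 1) *ᵥ u)
        ((monM (dlt (-e)) 1 * mat x * monM (dlt e) 1) *ᵥ v) = hermForm 6 K4 2 u v
      rw [← Matrix.mulVec_mulVec, ← Matrix.mulVec_mulVec, ← Matrix.mulVec_mulVec,
        ← Matrix.mulVec_mulVec, monM_preserving _ (dlt_ne (-e)), mat_herm,
        monM_preserving _ (dlt_ne e)]⟩
  left_inv x := mat_injective (by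
    show monM (dlt (-e)) 1 * (monM (dlt e) 1 * mat x * monM (dlt (-e)) 1) * monM (dlt e) 1 = mat x
    have h := dlt_conj (-e)
    rw [neg_neg] at h
    simp only [← Matrix.mul_assoc]
    rw [h, Matrix.one_mul, Matrix.mul_assoc, h, Matrix.mul_one])
  right_inv x := mat_injective (by
    show monM (dlt e) 1 * (monM (dlt (-e)) 1 * mat x * monM (dlt e) 1) * monM (dlt (-e)) 1 = mat x
    have h := dlt_conj e
    simp only [← Matrix.mul_assoc]
    rw [h, Matrix.one_mul, Matrix.mul_assoc, h, Matrix.mul_one])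
  map_mul' x y := mat_injective (by
    show monM (dlt e) 1 * mat (x * y) * monM (dlt (-e)) 1 =
      (monM (dlt e) 1 * mat x * monM (dlt (-e)) 1) * (monM (dlt e) 1 * mat y * monM (dlt (-e)) 1)
    have h := dlt_conj (-e)
    rw [neg_neg] at h
    rw [mat_mul]
    simp only [Matrix.mul_assoc]
    rw [← Matrix.mul_assoc (monM (dlt (-e)) 1) (monM (dlt e) 1), h, Matrix.one_mul])

theorem mat_cd (e : Fin 3) (x : G6) :
    mat (cd e x) = monM (dlt e) 1 * mat x * monM (dlt (-e)) 1 := rfl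

end Cfsg.Agent.Lib.U43InU62
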