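import Cfsg.Agent.Lib.U43InU62.Basic
import Cfsg.Agent.Lib.U43InU62.Data
import Cfsg.Agent.Lib.LatticeUnitary.U4Cert

/-! The kernel checks for the triple covers: frames, automorphisms, lines and words. -/

set_option autoImplicit false
set_option maxRecDepth 20000
set_option maxHeartbeats 4000000
set_option Elab.async false

namespace Cfsg.Agent.Lib.U43InU62

open Cfsg Matrix
open Cfsg.Agent.Lib.U33 (K9 kE)
open Cfsg.Agent.Lib.Computation (getW)
open Cfsg.Agent.Lib.LatticeUnitary.U4 (lp lq h4)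

/-- A matrix from its code. -/
def decM (P : ℕ) : Matrix (Fin 6) (Fin 6) K4 :=
  Matrix.of fun i j => k4 (getW 2 (getW 12 P j) i)

/-- A block from its code. -/
def qM (k : ℕ) : Matrix (Fin 3) (Fin 3) K4 :=
  Matrix.of fun i j => k4 (getW 2 (qs.getD k 0) (3 * i + j))

/-- A coefficient vector from its code. -/
def decC (cN : ℕ) : Fin 6 → K4 := fun i => k4 (getW 2 cN i)

/-- A product of swaps. -/
def permOf (l : List (Fin 6 × Fin 6)) : Equiv.Perm (Fin 6) :=
  (l.map fun p => Equiv.swap p.1 p.2).prod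

/-- A vector of a frame. -/
def fv (j i : ℕ) : Fin 6 → K4 := fun x => k4 (getW 2 (getW 12 (getW 72 frames j) i) x)

/-- The form, coordinatewise. -/
def h6 (u v : Fin 6 → K4) : K4 :=
  u 0 * (v 0 * v 0) + u 1 * (v 1 * v 1) + u 2 * (v 2 * v 2) + u 3 * (v 3 * v 3) +
    u 4 * (v 4 * v 4) + u 5 * (v 5 * v 5)

theorem herm_eq6 (u v : Fin 6 → K4) : hermForm 6 K4 2 u v = h6 u v := by
  simp only [hermForm, Fin.sum_univ_six, h6, pow_two]

/-- Six sums of products. -/
def mv6 (A : Matrix (Fin 6) (Fin 6) K4) (v : Fin 6 → K4) : Fin 6 → K4 := fun i =>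
  A i 0 * v 0 + A i 1 * v 1 + A i 2 * v 2 + A i 3 * v 3 + A i 4 * v 4 + A i 5 * v 5

theorem mulVec_eq6 (A : Matrix (Fin 6) (Fin 6) K4) (v : Fin 6 → K4) : A *ᵥ v = mv6 A v := by
  funext i
  simp [Matrix.mulVec, dotProduct, mv6, Fin.sum_univ_six]

/-- A matrix product, entrywise. -/
def mm6 (A B : Matrix (Fin 6) (Fin 6) K4) : Matrix (Fin 6) (Fin 6) K4 :=
  Matrix.of fun i k => mv6 A (fun j => B j k) i

theorem mul_eq6 (A B : Matrix (Fin 6) (Fin 6) K4) : A * B = mm6 A B := by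
  ext i k
  simp [Matrix.mul_apply, mm6, mv6, Fin.sum_univ_six]

/-- The conjugate transpose. -/
def stM (A : Matrix (Fin 6) (Fin 6) K4) : Matrix (Fin 6) (Fin 6) K4 :=
  Matrix.of fun i j => A j i * A j i

/-- The image of a label under an automorphism. -/
def labPerm (g j : ℕ) : ℕ := getW 7 (u43_gens.getD g 0) j

/-- The place of the image of a vector. -/
def imgPos (g j i : ℕ) : ℕ := getW 5 (frameImg.getD g 0) (6 * j + i) % 8

/-- The factor of the image of a vector. -/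
def imgFac (g j i : ℕ) : K4 := k4 (getW 5 (frameImg.getD g 0) (6 * j + i) / 8)

/-- An entry. -/
def en (A : Matrix (Fin 6) (Fin 6) K4) (i j : Fin 6) : K4 := A i j

theorem eq_of_en {A B : Matrix (Fin 6) (Fin 6) K4} (h : ∀ i j, en A i j = en B i j) : A = B :=
  Matrix.ext h

/-- An automorphism of the six-dimensional space. -/
def gmat (g : ℕ) : Matrix (Fin 6) (Fin 6) K4 := decM (gmats.getD g 0)

theorem frame_ok : ∀ g : Fin 4, ∀ j : Fin 112, labPerm g j < 112 ∧ ∀ i : Fin 6, imgPos g j i < 6 ∧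
    ∀ x : Fin 6, mv6 (gmat g) (fv j i) x = imgFac g j i * fv (labPerm g j) (imgPos g j i) x := by
  decide +kernel

theorem frame_zero : ∀ i x : Fin 6, fv 0 i x = if x = i then 1 else 0 := by decide +kernel

theorem frame_ne : ∀ j : Fin 112, ∀ i : Fin 6, ∃ x : Fin 6, fv j i x ≠ 0 := by decide +kernel

theorem frame_orth : ∀ j : Fin 112, ∀ a b : Fin 6, a ≠ b → h6 (fv j a) (fv j b) = 0 := by
  decide +kernel

/-- A witness of difference. -/
def dw (j k : ℕ) : ℕ := getW 9 (distinctW.getD j 0) k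

theorem frames_differ : ∀ j k : Fin 112, j = k ∨ (dw j k % 8 < 6 ∧ dw j k / 8 % 8 < 6 ∧
    dw j k / 64 < 6 ∧ dw j k / 8 % 8 ≠ dw j k / 64 ∧
    h6 (fv j (dw j k % 8)) (fv k (dw j k / 8 % 8)) ≠ 0 ∧
    h6 (fv j (dw j k % 8)) (fv k (dw j k / 64)) ≠ 0) := by decide +kernel

theorem par_ok4 : ∀ j : Fin 112, j.1 = 0 ∨ (getW 16 par4 j % 128 < 112 ∧
    getW 16 par4 j >>> 7 % 4 < 4 ∧
    labPerm (getW 16 par4 j >>> 7 % 4) (getW 16 par4 j % 128) = j ∧
    getW 16 par4 (getW 16 par4 j % 128) >>> 9 < getW 16 par4 j >>> 9) := by decide +kernel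

/-- The set of a splitting. -/
def splitSet (k : ℕ) : ℕ := (splits.getD k (0, 0, 0)).1

/-- The frame of a splitting. -/
def splitFrame (k : ℕ) : ℕ := (splits.getD k (0, 0, 0)).2.1

/-- The vector of a splitting. -/
def splitVec (k : ℕ) : ℕ := (splits.getD k (0, 0, 0)).2.2

theorem split_ok : ∀ k : Fin 10, splitFrame k < 112 ∧ splitVec k < 6 ∧
    (∀ x : Fin 6, (splitSet k).testBit x = decide (fv (splitFrame k) (splitVec k) x ≠ 0)) ∧
    ∀ i : Fin 6, ∃ fl : Bool, ∀ x : Fin 6,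
      decide (fv (splitFrame k) i x ≠ 0) = xor fl ((splitSet k).testBit x) := by
  decide +kernel

/-- A map of the coordinates respects a splitting. -/
def Keeps (f : Fin 6 → Fin 6) : Prop :=
  ∀ k : Fin 10, ∃ fl : Bool, ∀ x : Fin 6, (splitSet k).testBit (f x) = xor fl ((splitSet k).testBit x)

instance keepsDecidable (f : Fin 6 → Fin 6) : Decidable (Keeps f) := by
  unfold Keeps; infer_instance

set_option synthInstance.maxSize 5000 in
set_option synthInstance.maxHeartbeats 2000000 in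
theorem keeps_id : ∀ a b : Fin 6, a ≠ b → ∀ c : Fin 6, a ≠ c → b ≠ c → ∀ d : Fin 6, a ≠ d →
    b ≠ d → c ≠ d → ∀ e : Fin 6, a ≠ e → b ≠ e → c ≠ e → d ≠ e → ∀ f : Fin 6, a ≠ f → b ≠ f →
    c ≠ f → d ≠ f → e ≠ f → Keeps ![a, b, c, d, e, f] →
    a = 0 ∧ b = 1 ∧ c = 2 ∧ d = 3 ∧ e = 4 ∧ f = 5 := by decide +kernel

/-- Five coefficients after a one. -/
def fiveC (a b c d e : Fin 3) : Fin 6 → K4 :=
  ![1, k4 (a + 1), k4 (b + 1), k4 (c + 1), k4 (d + 1), k4 (e + 1)]

theorem diag_detect : ∀ a b c d e : Fin 3, (a = 0 ∧ b = 0 ∧ c = 0 ∧ d = 0 ∧ e = 0) ∨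
    ∃ w : Fin 2, (diagW.getD w (0, 0)).1 < 112 ∧ (diagW.getD w (0, 0)).2 < 6 ∧
      ∀ i : Fin 6, ∀ t : K4, ∃ x : Fin 6,
        fiveC a b c d e x * fv (diagW.getD w (0, 0)).1 (diagW.getD w (0, 0)).2 x ≠
          t * fv (diagW.getD w (0, 0)).1 i x := by decide +kernel

/-! ### The generators -/

/-- The coefficients of the first generator. -/
def dvec : Fin 6 → K4 := ![k4 2, k4 3, 1, 1, 1, 1]

/-- The five-cycle. -/
def permA : Equiv.Perm (Fin 6) := permOf [(0, 1), (1, 2), (2, 3), (3, 4)]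

/-- The three-cycle. -/
def permB : Equiv.Perm (Fin 6) := permOf [(3, 4), (4, 5)]

/-- The transposition. -/
def permTau : Equiv.Perm (Fin 6) := Equiv.swap 0 1

theorem gmat_zero : ∀ i j, en (gmat 0) i j = en (monM dvec 1) i j := by decide +kernel

theorem gmat_one : ∀ i j, en (gmat 1) i j = en (monM 1 permA) i j := by decide +kernel

theorem gmat_two : ∀ i j, en (gmat 2) i j = en (monM 1 permB) i j := by decide +kernel

theorem a6_eq : ∀ x : Fin 6, (permA x : ℕ) = getW 3 (a6_gens.getD 0 0) x ∧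
    (permB x : ℕ) = getW 3 (a6_gens.getD 1 0) x := by decide +kernel

theorem qM_ok : ∀ k : Fin 4, (∀ i j : Fin 3,
    (qM k 0 i ^ 2) * qM k 0 j + (qM k 1 i ^ 2) * qM k 1 j + (qM k 2 i ^ 2) * qM k 2 j =
      if i = j then 1 else 0) := by decide +kernel

theorem qM_det : ∀ k : Fin 4, (qM k).det = 1 := by decide +kernel

theorem gmat_three : ∀ i j, en (gmat 3) i j = en (mm6 (monM 1 permTau) (blkM (qM 1) (qM 1))) i j := by
  decide +kernel

/-- The conjugates of the fourth generator. -/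
def gE (e : ℕ) : Matrix (Fin 6) (Fin 6) K4 := decM (gEs.getD e 0)

theorem gE_ok : ∀ e : Fin 3, ∀ i j,
    en (gE e) i j = en (mm6 (mm6 (monM (dlt e) 1) (gmat 3)) (monM (dlt (-e)) 1)) i j := by decide +kernel

/-! ### The lines -/

/-- A matrix of the unitary space. -/
def mat4 (g : ℕ) : Matrix (Fin 4) (Fin 4) K9 :=
  Matrix.of fun i k => kE (getW 4 (mats4.getD g 0) (4 * i + k))

/-- A stored coefficient. -/
def cf4 (g j k : ℕ) : K9 := kE (getW 4 (getW 16 (coefs4.getD g 0) j) k)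

/-- Four sums of products. -/
def mv4 (g : ℕ) (x : Fin 4 → K9) : Fin 4 → K9 := fun i =>
  mat4 g i 0 * x 0 + mat4 g i 1 * x 1 + mat4 g i 2 * x 2 + mat4 g i 3 * x 3

theorem mulVec_eq4 (g : ℕ) (x : Fin 4 → K9) : mat4 g *ᵥ x = mv4 g x := by
  funext i
  simp [Matrix.mulVec, dotProduct, mv4, Fin.sum_univ_four]

theorem line_image_ok : ∀ g : Fin 4, ∀ j : Fin 112, ∀ i : Fin 4,
    mv4 g (lp j) i = cf4 g j 0 * lp (labPerm g j) i + cf4 g j 1 * lq (labPerm g j) i ∧
      mv4 g (lq j) i = cf4 g j 2 * lp (labPerm g j) i + cf4 g j 3 * lq (labPerm g j) i := by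
  decide +kernel

theorem unitary4_ok : ∀ g : Fin 4, ∀ i k : Fin 4,
    (mat4 g 0 i * mat4 g 0 i * mat4 g 0 i) * mat4 g 0 k +
      (mat4 g 1 i * mat4 g 1 i * mat4 g 1 i) * mat4 g 1 k +
      (mat4 g 2 i * mat4 g 2 i * mat4 g 2 i) * mat4 g 2 k +
      (mat4 g 3 i * mat4 g 3 i * mat4 g 3 i) * mat4 g 3 k = if i = k then 1 else 0 := by
  decide +kernel

theorem det4_ok : ∀ g : Fin 4, (mat4 g).det = 1 := by decide +kernel

/-! ### The words -/

/-- A case: letters, the kind of goal, and the coefficients and permutation of the goal. -/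
def wordAt (k : ℕ) : List (ℕ × ℕ × List (Fin 6 × Fin 6) × ℕ) × ℕ × ℕ × List (Fin 6 × Fin 6) :=
  words.getD k ([], 4, 0, [])

/-- The first matrix of a case. -/
def gC (k : ℕ) : Matrix (Fin 6) (Fin 6) K4 := decM (caseG.getD k 0)

/-- The second matrix of a case. -/
def fC (k : ℕ) : Matrix (Fin 6) (Fin 6) K4 := if k < 32 then gE 1 else gE 2

/-- Coefficients and swaps describe a monomial element of determinant one. -/
def goodCS (cN : ℕ) (l : List (Fin 6 × Fin 6)) : Bool :=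
  decide (∀ i, decC cN i ≠ 0) && decide (∏ i, decC cN i = 1) && l.all fun p => decide (p.1 ≠ p.2)

/-- The matrix of a letter. -/
def letterM (g f : Matrix (Fin 6) (Fin 6) K4) :
    ℕ × ℕ × List (Fin 6 × Fin 6) × ℕ → Matrix (Fin 6) (Fin 6) K4
  | (0, c, l, _) => monM (decC c) (permOf l)
  | (1, _, _, _) => g
  | (2, _, _, _) => stM g
  | (3, _, _, _) => f
  | (_, _, _, _) => stM f

/-- A letter is admissible. -/
def letterOK : ℕ × ℕ × List (Fin 6 × Fin 6) × ℕ → Bool
  | (0, c, l, _) => goodCS c l && decide (l.length % 2 = 0)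
  | _ => true

/-- The prefixes multiply correctly. -/
def chainOK (g f : Matrix (Fin 6) (Fin 6) K4) :
    List (ℕ × ℕ × List (Fin 6 × Fin 6) × ℕ) → Matrix (Fin 6) (Fin 6) K4 → Bool
  | [], _ => true
  | x :: r, P => letterOK x && decide (∀ i j, en (mm6 P (letterM g f x)) i j = en (decM x.2.2.2) i j) &&
      chainOK g f r (decM x.2.2.2)

/-- The last prefix. -/
def lastM : List (ℕ × ℕ × List (Fin 6 × Fin 6) × ℕ) → Matrix (Fin 6) (Fin 6) K4 →
    Matrix (Fin 6) (Fin 6) K4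
  | [], P => P
  | x :: r, _ => lastM r (decM x.2.2.2)

/-- The check of a case. -/
def caseOK (k : ℕ) : Bool :=
  chainOK (gC k) (fC k) (wordAt k).1 (monM 1 1) &&
    if (wordAt k).2.1 < 3 then
      decide (∀ i j, en (lastM (wordAt k).1 (monM 1 1)) i j = en (gE (wordAt k).2.1) i j)
    else
      decide (∀ i j, en (lastM (wordAt k).1 (monM 1 1)) i j =
        en (monM (decC (wordAt k).2.2.1) (permOf (wordAt k).2.2.2)) i j) &&
      goodCS (wordAt k).2.2.1 (wordAt k).2.2.2 && decide ((wordAt k).2.2.2.length % 2 = 1)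

theorem cases_ok : ∀ k : Fin 36, caseOK k = true := by decide +kernel

theorem caseG_ok : ∀ k : Fin 30, ∀ i j,
    en (gC k) i j = en (mm6 (monM 1 (permTau ^ (k.1 / 15)))
      (blkM (qM ((k.1 % 15 + 1) / 4)) (qM ((k.1 % 15 + 1) % 4)))) i j := by decide +kernel

theorem caseN_ok : ∀ k : Fin 6, ∀ i j,
    en (gC (30 + k.1)) i j =
      en (mm6 (mm6 (monM 1 (permTau ^ (k.1 % 2))) (gE (if k.1 < 4 then 0 else 1)))
        (monM 1 (permTau ^ (k.1 % 2)))) i j := by decide +kernel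

end Cfsg.Agent.Lib.U43InU62
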