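import Cfsg.Agent.Lib.U43InU62.Normal

/-!
A triple cover of the same simple group: its preimage of the diagonal group is elementary abelian, and
after a conjugation it contains the monomial group and one of the extra generators.
-/

set_option autoImplicit false
set_option maxRecDepth 20000
set_option Elab.async false

namespace Cfsg.Agent.Lib.U43InU62

open Cfsg Matrix

/-- The central quotient of the model. -/
abbrev Q1 : Type := ↥K1 ⧸ Subgroup.center ↥K1

/-- A triple cover with its map onto the model's central quotient. -/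
structure Cover (K : Subgroup G6) where
  /-- The map onto the quotient. -/
  pr : K →* Q1
  surj : Function.Surjective pr
  ker_eq : pr.ker = Subgroup.center K
  card_center : Nat.card (Subgroup.center K) = 3

namespace Cover

variable {K : Subgroup G6} (C : Cover K)

/-- The preimage of a subgroup of the model. -/
def pre (X : Subgroup G6) : Subgroup G6 :=
  (((X.subgroupOf K1).map (QuotientGroup.mk' (Subgroup.center K1))).comap C.pr).map K.subtype

theorem pre_le (X : Subgroup G6) : C.pre X ≤ K := Subgroup.map_subtype_le _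

theorem mem_pre {X : Subgroup G6} {a : G6} :
    a ∈ C.pre X ↔ ∃ (h : a ∈ K) (x : K1), (x : G6) ∈ X ∧ C.pr ⟨a, h⟩ = QuotientGroup.mk x := by
  constructor
  · rintro ⟨b, ⟨x, hx, e⟩, rfl⟩
    exact ⟨b.2, x, hx, e.symm⟩
  · rintro ⟨h, x, hx, e⟩
    exact ⟨⟨a, h⟩, ⟨x, hx, e.symm⟩, rfl⟩

include C in
theorem card_eq : Nat.card K = 9797760 := by
  have e : Nat.card Q1 = 3265920 := by
    obtain ⟨e⟩ := quot_K1
    rw [Nat.card_congr e.toEquiv, card_psu]
  rw [← C.pr.ker.card_mul_index, Subgroup.index_ker, MonoidHom.range_eq_top.2 C.surj,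
    Subgroup.card_top, C.ker_eq, C.card_center, e]

theorem card_pre {X : Subgroup G6} (hZ : Zs ≤ X) (hX : X ≤ K1) :
    Nat.card (C.pre X) = Nat.card X := by
  set Y := (X.subgroupOf K1).map (QuotientGroup.mk' (Subgroup.center K1)) with hY
  have h1 : Nat.card (C.pre X) = Nat.card (Y.comap C.pr) :=
    Subgroup.card_map_of_injective K.subtype_injective
  have h2 := (Y.comap C.pr).card_mul_index
  rw [Subgroup.index_comap_of_surjective Y C.surj, C.card_eq] at h2
  have h3 := (X.subgroupOf K1).card_mul_index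
  rw [Nat.card_congr (Subgroup.subgroupOfEquivOfLe hX).toEquiv, card_K1] at h3
  have h4 : Y.index = (X.subgroupOf K1).index := by
    rw [hY, Subgroup.index_map_eq _ (QuotientGroup.mk'_surjective _)]
    rw [QuotientGroup.ker_mk', center_K1]
    exact fun x hx => hZ hx
  rw [h1]
  rw [h4] at h2
  have hne : (X.subgroupOf K1).index ≠ 0 := by
    intro h0
    rw [h0, mul_zero] at h3
    omega
  exact Nat.eq_of_mul_eq_mul_right (Nat.pos_of_ne_zero hne) (h2.trans h3.symm)

theorem center_mem_pre (X : Subgroup G6) {z : K} (hz : z ∈ Subgroup.center K) :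
    (z : G6) ∈ C.pre X := by
  refine C.mem_pre.2 ⟨z.2, 1, one_mem _, ?_⟩
  rw [QuotientGroup.mk_one]
  exact MonoidHom.mem_ker.1 (C.ker_eq.symm ▸ hz)

theorem eq_mul_center {a b : K} (h : C.pr a = C.pr b) : ∃ z ∈ Subgroup.center K, a = b * z :=
  ⟨b⁻¹ * a, by rw [← C.ker_eq, MonoidHom.mem_ker, map_mul, map_inv, h, inv_mul_cancel],
    (mul_inv_cancel_left b a).symm⟩

include C in
theorem center_pow_three {z : K} (hz : z ∈ Subgroup.center K) : z ^ 3 = 1 := by
  have h : (⟨z, hz⟩ : Subgroup.center K) ^ Nat.card (Subgroup.center K) = 1 := pow_card_eq_one'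
  rw [C.card_center] at h
  exact congrArg Subtype.val h

include C in
theorem eq_one_of_inv {z : K} (hz : z ∈ Subgroup.center K) (h : z = z⁻¹) : z = 1 := by
  have h2 : z * z = 1 := by
    conv_lhs => arg 2; rw [h]
    exact mul_inv_cancel z
  have h3 := C.center_pow_three hz
  rw [pow_three, h2, mul_one] at h3
  exact h3

/-- A lift to the cover of an element of the model. -/
noncomputable def lift (x : K1) : K := (C.surj (QuotientGroup.mk x)).choose

theorem pr_lift (x : K1) : C.pr (C.lift x) = QuotientGroup.mk x :=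
  (C.surj (QuotientGroup.mk x)).choose_spec

/-- A generator of the diagonal group in the model. -/
def tGen (k : Fin 5) : K1 := ⟨dd (Pi.single k 1), dd_mem _⟩

/-- A diagonal element in the model. -/
def tEl (p : Fin 5 → Fin 3) : K1 := ⟨dd p, dd_mem p⟩

theorem tEl_add (p q : Fin 5 → Fin 3) : tEl (p + q) = tEl p * tEl q := Subtype.ext (dd_add p q)

/-- Two swaps whose product acts on two exponent vectors as required. -/
def PairPerm (k l : Fin 5) (s t : Fin 3) (a b c d : Fin 6) : Prop :=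
  a ≠ b ∧ c ≠ d ∧
    (∀ i, expv (Pi.single k 1) ((Equiv.swap a b * Equiv.swap c d)⁻¹ i) = s * expv (Pi.single l 1) i) ∧
    ∀ i, expv (Pi.single l 1) ((Equiv.swap a b * Equiv.swap c d)⁻¹ i) = t * expv (Pi.single k 1) i

instance pairPermDecidable (k l : Fin 5) (s t : Fin 3) (a b c d : Fin 6) :
    Decidable (PairPerm k l s t a b c d) := by
  unfold PairPerm; infer_instance

theorem pair_perm : ∀ k l : Fin 5, k = l ∨ ∃ a b c d : Fin 6,
    PairPerm k l 1 1 a b c d ∨ PairPerm k l 2 2 a b c d := by decide +kernel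

theorem self_perm : ∀ k : Fin 5, ∃ a b c d : Fin 6, PairPerm k k 2 2 a b c d := by decide +kernel

theorem pair_mem {k l : Fin 5} {s t : Fin 3} {a b c d : Fin 6} (h : PairPerm k l s t a b c d) :
    permS (Equiv.swap a b * Equiv.swap c d) ∈ K1 := by
  refine permS_mem (Equiv.Perm.mem_alternatingGroup.2 ?_)
  rw [map_mul, Equiv.Perm.sign_swap h.1, Equiv.Perm.sign_swap h.2.1]
  rfl

theorem conj_tEl {σ : Equiv.Perm (Fin 6)} (hσ : permS σ ∈ K1) {p q : Fin 5 → Fin 3}
    (h : ∀ i, expv p (σ⁻¹ i) = expv q i) :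
    (⟨permS σ, hσ⟩ : K1) * tEl p * (⟨permS σ, hσ⟩ : K1)⁻¹ = tEl q := by
  rw [mul_inv_eq_iff_eq_mul]
  apply Subtype.ext
  show permS σ * dd p = dd q * permS σ
  apply mat_injective
  rw [mat_mul_evv (mat_permS' σ) (mat_dd p), mat_mul_evv (mat_dd q) (mat_permS' σ), one_mul, mul_one]
  congr 2
  funext i
  simpa using h i

theorem conj_lift {σ : Equiv.Perm (Fin 6)} (hσ : permS σ ∈ K1) {p q : Fin 5 → Fin 3}
    (h : ∀ i, expv p (σ⁻¹ i) = expv q i) {a b : K} (ha : C.pr a = QuotientGroup.mk (tEl p))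
    (hb : C.pr b = QuotientGroup.mk (tEl q)) :
    ∃ z ∈ Subgroup.center K,
      C.lift ⟨permS σ, hσ⟩ * a * (C.lift ⟨permS σ, hσ⟩)⁻¹ = b * z := by
  refine C.eq_mul_center ?_
  rw [map_mul, map_mul, map_inv, pr_lift, ha, hb, ← conj_tEl hσ h]
  simp only [QuotientGroup.mk_mul, QuotientGroup.mk_inv]

theorem scale_single (s : Fin 3) (l : Fin 5) (i : Fin 6) :
    s * expv (Pi.single l 1) i = expv (Pi.single l s) i := by
  revert s l i; decide +kernel

/-- The chosen lifts of the generators. -/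
noncomputable def gen (k : Fin 5) : K := C.lift (tGen k)

theorem gen_inv (k : Fin 5) : C.pr (C.gen k)⁻¹ = QuotientGroup.mk (tEl (Pi.single k 2)) := by
  rw [map_inv, gen, pr_lift, ← QuotientGroup.mk_inv]
  congr 1
  rw [inv_eq_iff_mul_eq_one]
  show tEl (Pi.single k 1) * tEl (Pi.single k 2) = 1
  rw [← tEl_add, ← Pi.single_add, show (1 : Fin 3) + 2 = 0 from rfl, Pi.single_zero]
  exact Subtype.ext dd_zero

theorem gen_spec (k : Fin 5) : C.pr (C.gen k) = QuotientGroup.mk (tEl (Pi.single k 1)) :=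
  C.pr_lift _

theorem pr_tEl_comm (p q : Fin 5 → Fin 3) {a b : K} (ha : C.pr a = QuotientGroup.mk (tEl p))
    (hb : C.pr b = QuotientGroup.mk (tEl q)) :
    a * b * a⁻¹ * b⁻¹ ∈ Subgroup.center K := by
  rw [← C.ker_eq, MonoidHom.mem_ker, map_mul, map_mul, map_mul, map_inv, map_inv, ha, hb,
    ← QuotientGroup.mk_mul, ← tEl_add, add_comm p q, tEl_add, QuotientGroup.mk_mul,
    mul_inv_cancel_right, mul_inv_cancel]

theorem gen_comm (k l : Fin 5) : C.gen k * C.gen l = C.gen l * C.gen k := by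
  by_cases hkl : k = l
  · rw [hkl]
  obtain ⟨a, b, c, d, h⟩ := (pair_perm k l).resolve_left hkl
  set u := C.gen k
  set v := C.gen l
  have hz := C.pr_tEl_comm _ _ (C.gen_spec k) (C.gen_spec l)
  set z := u * v * u⁻¹ * v⁻¹ with hzdef
  suffices h1 : z = 1 by
    rw [hzdef, mul_inv_eq_one, mul_inv_eq_iff_eq_mul] at h1
    exact h1
  refine C.eq_one_of_inv hz ?_
  have zc : ∀ w ∈ Subgroup.center K, ∀ g : K, g * w = w * g := fun w hw g =>
    Subgroup.mem_center_iff.1 hw g
  rcases h with h | h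
  · have hσ := pair_mem h
    set s := C.lift ⟨_, hσ⟩
    obtain ⟨w, hw, e1⟩ := C.conj_lift hσ (fun i => by rw [h.2.2.1 i, scale_single])
      (C.gen_spec k) (C.gen_spec l)
    obtain ⟨w', hw', e2⟩ := C.conj_lift hσ (fun i => by rw [h.2.2.2 i, scale_single])
      (C.gen_spec l) (C.gen_spec k)
    calc z = s * z * s⁻¹ := by rw [zc z hz s, mul_inv_cancel_right]
      _ = (s * u * s⁻¹) * (s * v * s⁻¹) * (s * u * s⁻¹)⁻¹ * (s * v * s⁻¹)⁻¹ := by
        rw [hzdef]; group
      _ = (v * w) * (u * w') * (v * w)⁻¹ * (u * w')⁻¹ := by rw [e1, e2]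
      _ = v * u * v⁻¹ * u⁻¹ := by
        rw [_root_.mul_inv_rev, _root_.mul_inv_rev]
        have hwi : w⁻¹ ∈ Subgroup.center K := inv_mem hw
        calc (v * w) * (u * w') * (w⁻¹ * v⁻¹) * (w'⁻¹ * u⁻¹)
            = v * (w * u) * (w' * w⁻¹) * (v⁻¹ * w'⁻¹) * u⁻¹ := by group
          _ = v * (u * w) * (w⁻¹ * w') * (w'⁻¹ * v⁻¹) * u⁻¹ := by
            rw [zc w hw u, zc w⁻¹ hwi w', zc _ (inv_mem hw') v⁻¹]
          _ = v * u * v⁻¹ * u⁻¹ := by group
      _ = z⁻¹ := by rw [hzdef]; group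
  · have hσ := pair_mem h
    set s := C.lift ⟨_, hσ⟩
    obtain ⟨w, hw, e1⟩ := C.conj_lift hσ (fun i => by rw [h.2.2.1 i, scale_single])
      (C.gen_spec k) (C.gen_inv l)
    obtain ⟨w', hw', e2⟩ := C.conj_lift hσ (fun i => by rw [h.2.2.2 i, scale_single])
      (C.gen_spec l) (C.gen_inv k)
    have key : z = v⁻¹ * u⁻¹ * v * u := by
      calc z = s * z * s⁻¹ := by rw [zc z hz s, mul_inv_cancel_right]
        _ = (s * u * s⁻¹) * (s * v * s⁻¹) * (s * u * s⁻¹)⁻¹ * (s * v * s⁻¹)⁻¹ := by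
          rw [hzdef]; group
        _ = (v⁻¹ * w) * (u⁻¹ * w') * (v⁻¹ * w)⁻¹ * (u⁻¹ * w')⁻¹ := by rw [e1, e2]
        _ = v⁻¹ * u⁻¹ * v * u := by
          rw [_root_.mul_inv_rev, _root_.mul_inv_rev, inv_inv, inv_inv]
          calc (v⁻¹ * w) * (u⁻¹ * w') * (w⁻¹ * v) * (w'⁻¹ * u)
              = v⁻¹ * (w * u⁻¹) * (w' * w⁻¹) * (v * w'⁻¹) * u := by group
            _ = v⁻¹ * (u⁻¹ * w) * (w⁻¹ * w') * (w'⁻¹ * v) * u := by
              rw [zc w hw u⁻¹, zc _ (inv_mem hw) w', zc _ (inv_mem hw') v]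
            _ = v⁻¹ * u⁻¹ * v * u := by group
    calc z = v⁻¹ * u⁻¹ * v * u := key
      _ = (u * v)⁻¹ * z⁻¹ * (u * v) := by rw [hzdef]; group
      _ = z⁻¹ := by
        rw [zc _ (inv_mem hz) (u * v)⁻¹, mul_assoc, inv_mul_cancel, mul_one]

theorem gen_cube (k : Fin 5) : C.gen k ^ 3 = 1 := by
  obtain ⟨a, b, c, d, h⟩ := self_perm k
  have hσ := pair_mem h
  obtain ⟨w, hw, e1⟩ := C.conj_lift hσ (fun i => by rw [h.2.2.1 i, scale_single])
    (C.gen_spec k) (C.gen_inv k)
  set s := C.lift ⟨_, hσ⟩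
  set u := C.gen k
  have h3 : u ^ 3 ∈ Subgroup.center K := by
    rw [← C.ker_eq, MonoidHom.mem_ker, map_pow, C.gen_spec k, ← QuotientGroup.mk_pow]
    rw [pow_three, ← tEl_add, ← tEl_add, ← Pi.single_add, ← Pi.single_add,
      show (1 : Fin 3) + (1 + 1) = 0 from rfl, Pi.single_zero,
      show tEl 0 = 1 from Subtype.ext dd_zero, QuotientGroup.mk_one]
  refine C.eq_one_of_inv h3 ?_
  calc u ^ 3 = s * u ^ 3 * s⁻¹ := by
        rw [Subgroup.mem_center_iff.1 h3 s, mul_inv_cancel_right]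
    _ = (s * u * s⁻¹) ^ 3 := conj_pow.symm
    _ = (u⁻¹ * w) ^ 3 := by rw [e1]
    _ = (u⁻¹) ^ 3 * w ^ 3 := (show Commute u⁻¹ w from Subgroup.mem_center_iff.1 hw _).mul_pow 3
    _ = (u ^ 3)⁻¹ := by rw [C.center_pow_three hw, mul_one, inv_pow]

theorem pre_T_elementary :
    (∀ a ∈ C.pre T, ∀ b ∈ C.pre T, a * b = b * a) ∧ ∀ a ∈ C.pre T, a ^ 3 = 1 := by
  let s : Set K := Set.range C.gen ∪ (Subgroup.center K : Set K)
  let M := Subgroup.closure s
  have hpair : ∀ a ∈ s, ∀ b ∈ s, a * b = b * a := by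
    rintro a (⟨k, rfl⟩ | ha) b (⟨l, rfl⟩ | hb)
    · exact C.gen_comm k l
    · exact Subgroup.mem_center_iff.1 hb _
    · exact (Subgroup.mem_center_iff.1 ha _).symm
    · exact Subgroup.mem_center_iff.1 hb _
  have h1 : M ≤ Subgroup.centralizer s := (Subgroup.closure_le _).2 fun b hb =>
    Subgroup.mem_centralizer_iff.2 fun a ha => hpair a ha b hb
  have h2 : M ≤ Subgroup.centralizer (M : Set K) := (Subgroup.closure_le _).2 fun b hb =>
    Subgroup.mem_centralizer_iff.2 fun a ha => (Subgroup.mem_centralizer_iff.1 (h1 ha) b hb).symm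
  have hcomm : ∀ a ∈ M, ∀ b ∈ M, a * b = b * a := fun a ha b hb =>
    Subgroup.mem_centralizer_iff.1 (h2 hb) a ha
  have hcube : ∀ a ∈ M, a ^ 3 = 1 := by
    intro a ha
    have : a ∈ M ∧ a ^ 3 = 1 := by
      induction ha using Subgroup.closure_induction with
      | mem x hx =>
        refine ⟨Subgroup.subset_closure hx, ?_⟩
        rcases hx with ⟨k, rfl⟩ | hx
        · exact C.gen_cube k
        · exact C.center_pow_three hx
      | one => exact ⟨one_mem _, one_pow _⟩
      | mul x y _ _ ihx ihy =>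
        exact ⟨mul_mem ihx.1 ihy.1, by
          rw [(show Commute x y from hcomm _ ihx.1 _ ihy.1).mul_pow, ihx.2, ihy.2, one_mul]⟩
      | inv x _ ih => exact ⟨inv_mem ih.1, by rw [inv_pow, ih.2, inv_one]⟩
    exact this.2
  have hdd : ∀ p, ∃ b ∈ M, C.pr b = QuotientGroup.mk (tEl p) := by
    intro p
    have hs : ∀ k m, ∃ b ∈ M, C.pr b = QuotientGroup.mk (tEl (Pi.single k m)) := by
      intro k m
      have hk : C.gen k ∈ M := Subgroup.subset_closure (Or.inl ⟨k, rfl⟩)
      fin_cases m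
      · exact ⟨1, one_mem _, by simp [show tEl 0 = 1 from Subtype.ext dd_zero]⟩
      · exact ⟨C.gen k, hk, C.gen_spec k⟩
      · exact ⟨(C.gen k)⁻¹, inv_mem hk, C.gen_inv k⟩
    obtain ⟨b0, m0, e0⟩ := hs 0 (p 0)
    obtain ⟨b1, m1, e1⟩ := hs 1 (p 1)
    obtain ⟨b2, m2, e2⟩ := hs 2 (p 2)
    obtain ⟨b3, m3, e3⟩ := hs 3 (p 3)
    obtain ⟨b4, m4, e4⟩ := hs 4 (p 4)
    refine ⟨b0 * b1 * b2 * b3 * b4,
      mul_mem (mul_mem (mul_mem (mul_mem m0 m1) m2) m3) m4, ?_⟩
    let t : Fin 5 → Fin 5 → Fin 3 := fun k => Pi.single k (p k)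
    have e : p = t 0 + t 1 + t 2 + t 3 + t 4 := by
      simp only [t]
      funext i
      fin_cases i <;> simp
    rw [map_mul, map_mul, map_mul, map_mul, e0, e1, e2, e3, e4]
    conv_rhs => rw [e, tEl_add, tEl_add, tEl_add, tEl_add]
    simp only [t, QuotientGroup.mk_mul]
  have hsub : ∀ a ∈ C.pre T, ∃ b ∈ M, (b : G6) = a := by
    intro a ha
    obtain ⟨h, x, hx, e⟩ := C.mem_pre.1 ha
    obtain ⟨p, hp⟩ := mem_T_iff.1 hx
    obtain ⟨b, hb, eb⟩ := hdd p
    obtain ⟨z, hz, ez⟩ := C.eq_mul_center (a := ⟨a, h⟩) (b := b)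
      (by rw [e, eb]; exact congrArg _ (Subtype.ext hp))
    exact ⟨⟨a, h⟩, ez ▸ mul_mem hb (Subgroup.subset_closure (Or.inr hz)), rfl⟩
  constructor
  · intro a ha b hb
    obtain ⟨a, ha', rfl⟩ := hsub a ha
    obtain ⟨b, hb', rfl⟩ := hsub b hb
    exact congrArg Subtype.val (hcomm a ha' b hb')
  · intro a ha
    obtain ⟨a, ha', rfl⟩ := hsub a ha
    exact congrArg Subtype.val (hcube a ha')

/-- The cover transported by conjugation. -/
noncomputable def conj (g : G6) : Cover (K.map (MulAut.conj g).toMonoidHom) where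
  pr := C.pr.comp ((MulAut.conj g).subgroupMap K).symm.toMonoidHom
  surj := C.surj.comp ((MulAut.conj g).subgroupMap K).symm.surjective
  ker_eq := by
    ext x
    obtain ⟨y, rfl⟩ := ((MulAut.conj g).subgroupMap K).surjective x
    show C.pr (((MulAut.conj g).subgroupMap K).symm (((MulAut.conj g).subgroupMap K) y)) = 1 ↔ _
    rw [MulEquiv.symm_apply_apply, ← MonoidHom.mem_ker, C.ker_eq, Subgroup.mem_center_iff]
    constructor
    · intro h
      refine Subgroup.mem_center_iff.2 fun z => ?_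
      obtain ⟨z, rfl⟩ := ((MulAut.conj g).subgroupMap K).surjective z
      exact (map_mul _ _ _).symm.trans ((congrArg _ (h z)).trans (map_mul _ _ _))
    · intro h z
      exact ((MulAut.conj g).subgroupMap K).injective
        ((map_mul _ _ _).trans ((Subgroup.mem_center_iff.1 h _).trans (map_mul _ _ _).symm))
  card_center := by
    rw [← C.card_center]
    exact Nat.card_congr (Subgroup.centerCongr ((MulAut.conj g).subgroupMap K).symm).toEquiv

theorem pre_conj (g : G6) (X : Subgroup G6) :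
    (C.conj g).pre X = (C.pre X).map (MulAut.conj g).toMonoidHom := by
  ext a
  rw [mem_pre]
  constructor
  · rintro ⟨h, x, hx, e⟩
    obtain ⟨b, hb⟩ := ((MulAut.conj g).subgroupMap K).surjective ⟨a, h⟩
    refine ⟨b, C.mem_pre.2 ⟨b.2, x, hx, ?_⟩, congrArg Subtype.val hb⟩
    rw [← e]
    exact congrArg C.pr ((MulEquiv.eq_symm_apply _).2 hb)
  · rintro ⟨b, hb, rfl⟩
    obtain ⟨h, x, hx, e⟩ := C.mem_pre.1 hb
    refine ⟨⟨b, h, rfl⟩, x, hx, ?_⟩
    rw [← e]
    show C.pr _ = C.pr _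
    congr 1
    exact ((MulAut.conj g).subgroupMap K).symm_apply_apply ⟨b, h⟩

end Cover

end Cfsg.Agent.Lib.U43InU62
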