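import Cfsg.Agent.Lib.U43InU62.Unique

/-! The three classes. -/

set_option autoImplicit false
set_option maxRecDepth 20000
set_option maxHeartbeats 400000
set_option Elab.async false

namespace Cfsg.Agent.Lib.U43InU62

open Cfsg Matrix

theorem qS_zero : qS 0 0 ∈ Mon := by
  refine ⟨1, 1, trivial, fun _ => one_ne_zero, trivial, ?_⟩
  have key : ∀ i j : Fin 6, en (blkM (qM 0) (qM 0)) i j = en (monM 1 1) i j := by decide +kernel
  exact eq_of_en key

theorem tau_mem_Mon : tau ∈ Mon := ⟨1, permTau, trivial, fun _ => one_ne_zero, trivial, rfl⟩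

theorem tau_pow_mat (s : ℕ) : mat (tau ^ s) = monM 1 (permTau ^ s) := by
  rw [tau, ← map_pow, mat_permS]

theorem case_index : ∀ (s : Fin 2) (i j : Fin 4), ¬ (i = 0 ∧ j = 0) → ∃ k : Fin 36,
    k.1 < 30 ∧ k.1 / 15 = s.1 ∧ (k.1 % 15 + 1) / 4 = i.1 ∧ (k.1 % 15 + 1) % 4 = j.1 := by
  decide +kernel

theorem pair_index : ∀ (s : Fin 2) (e f : Fin 3), e < f → ∃ k : Fin 6,
    k.1 % 2 = s.1 ∧ (if k.1 < 4 then 0 else 1) = e.1 ∧ f.1 = if k.1 < 2 then 1 else 2 := by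
  decide +kernel

theorem words_odd : ∀ k : Fin 6, ¬ (wordAt (30 + k.1)).2.1 < 3 := by decide +kernel

/-- The generator outside the monomial group, in the model. -/
def g1K : K1 := ⟨g1, gS_mem 3⟩

theorem coe_g1K : (g1K : G6) = g1 := rfl

/-- A cover in standard position is a model. -/
theorem eq_Ke_of {L : Subgroup G6} (D : Cover L) (hT : D.pre T = T) (hS : D.pre R ≤ S) :
    ∃ e : Fin 3, L = Ke e := by
  have hR : D.pre R = R := Cover.pre_R hT hS
  have hH : H ≤ L := Cover.H_le hT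
  have hcard : Nat.card L = 9797760 := D.card_eq
  obtain ⟨a, ha⟩ := D.surj (QuotientGroup.mk g1K)
  have hnorm : ∀ r ∈ R, (a : G6) * r * (a : G6)⁻¹ ∈ R := by
    intro r hr
    rw [← hR] at hr ⊢
    obtain ⟨hrL, x, hx, ex⟩ := D.mem_pre.1 hr
    have hmem : ((g1K * x * g1K⁻¹ : K1) : G6) ∈ R := by
      rw [Subgroup.coe_mul, Subgroup.coe_mul, Subgroup.coe_inv, coe_g1K]
      exact g1_norm_R hx
    refine D.mem_pre.2 ⟨mul_mem (mul_mem a.2 hrL) (inv_mem a.2), g1K * x * g1K⁻¹, hmem, ?_⟩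
    rw [show (⟨(a : G6) * r * (a : G6)⁻¹, mul_mem (mul_mem a.2 hrL) (inv_mem a.2)⟩ : L) =
      a * ⟨r, hrL⟩ * a⁻¹ from rfl, map_mul, map_mul, map_inv, ha, ex]
    rfl
  have hnm : (a : G6) ∉ Mon := by
    intro hm
    have h1 : (a : G6) ∈ H := Cover.inf_Mon hT ⟨a.2, hm⟩
    rw [← Cover.pre_H hT] at h1
    obtain ⟨_, x, hx, ex⟩ := D.mem_pre.1 h1
    have e : (QuotientGroup.mk g1K : Q1) = QuotientGroup.mk x := ha.symm.trans ex
    have hz := QuotientGroup.eq.1 e.symm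
    rw [center_K1, Subgroup.mem_subgroupOf] at hz
    have := mul_mem hx (Zs_le_H hz)
    rw [← Subgroup.coe_mul, mul_inv_cancel_left, coe_g1K] at this
    exact g1_not_Mon (H_le_Mon this)
  obtain ⟨y, hy, s, i, j, hfac⟩ := normalizer_R hnorm
  have hgL : tau ^ s.1 * qS i j ∈ L := by
    have := mul_mem (inv_mem (hH hy)) a.2
    rwa [hfac, inv_mul_cancel_left] at this
  have hij : ¬ (i = 0 ∧ j = 0) := by
    rintro ⟨rfl, rfl⟩
    exact hnm (hfac ▸ mul_mem (H_le_Mon hy) (mul_mem (pow_mem tau_mem_Mon _) qS_zero))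
  have hk := case_index s i j hij
  obtain ⟨k, hk30, ks, ki, kj⟩ := hk
  have eg : mat (tau ^ s.1 * qS i j) = gC k := by
    rw [mat_mul, tau_pow_mat, mul_eq6]
    have h := eq_of_en (caseG_ok ⟨k.1, hk30⟩)
    simp only [ks, ki, kj] at h
    exact h.symm
  have hfree : k.1 < 30 → ∀ x ∈ (wordAt k).1, x.1 < 3 := fun h x hx => by
    simpa using List.all_eq_true.1 (words_free ⟨k.1, h⟩) x hx
  rcases word_result k hH hgL hgL eg (Or.inl hk30) hfree with ⟨-, e, he⟩ | ⟨x, hxL, hxM, hxH⟩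
  · exact ⟨e, (Subgroup.eq_of_le_of_card_ge he (by rw [hcard, card_Ke])).symm⟩
  · exact absurd (Cover.inf_Mon hT ⟨hxL, hxM⟩) hxH

/-- Every cover is conjugate to a model. -/
theorem exists_conj_Ke {K : Subgroup G6} (C : Cover K) :
    ∃ (g : G6) (e : Fin 3), K.map (MulAut.conj g).toMonoidHom = Ke e := by
  obtain ⟨g₁, hT₁⟩ := C.exists_conj_T
  obtain ⟨g₂, hT, hS⟩ := (C.conj g₁).exists_conj_R hT₁
  obtain ⟨e, he⟩ := eq_Ke_of _ hT hS
  refine ⟨g₂ * g₁, e, ?_⟩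
  rw [← he, Subgroup.map_map]
  congr 1
  ext x
  simp [MulAut.conj_apply, mul_assoc]

theorem Ke_not_conj {e f : Fin 3} (hef : e < f) :
    ¬ ∃ g : G6, (Ke e).map (MulAut.conj g).toMonoidHom = Ke f := by
  rintro ⟨g, hg⟩
  haveI : Fact (Nat.Prime 3) := ⟨by norm_num⟩
  have hSK : S ≤ Ke f := S_le_H.trans (H_le_Ke f)
  have hcS : Nat.card (S.subgroupOf (Ke f)) = 2187 := by
    rw [Nat.card_congr (Subgroup.subgroupOfEquivOfLe hSK).toEquiv, card_S]
  let S' : Sylow 3 (Ke f) := (IsPGroup.of_card (n := 7) (hcS.trans (by norm_num)) :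
    IsPGroup 3 (S.subgroupOf (Ke f))).toSylow (by
      have h := (S.subgroupOf (Ke f)).card_mul_index
      rw [hcS, card_Ke] at h
      omega)
  let T' := T.map (MulAut.conj g).toMonoidHom
  have hT'K : T' ≤ Ke f := hg ▸ Subgroup.map_mono (T_le_H.trans (H_le_Ke e))
  have hT'card : Nat.card T' = 243 :=
    (Subgroup.card_map_of_injective (f := (MulAut.conj g).toMonoidHom)
      (MulAut.conj g).injective).trans card_T
  have hP : IsPGroup 3 (T'.subgroupOf (Ke f)) := by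
    refine IsPGroup.of_card (n := 5) ?_
    rw [Nat.card_congr (Subgroup.subgroupOfEquivOfLe hT'K).toEquiv, hT'card]
    norm_num
  obtain ⟨P, hPle⟩ := hP.exists_le_sylow
  obtain ⟨k, hk⟩ := MulAction.exists_smul_eq (Ke f) P S'
  set y : G6 := k.1 * g with hy
  have hyS : T.map (MulAut.conj y).toMonoidHom ≤ S := by
    rintro _ ⟨t, ht, rfl⟩
    have htT' : g * t * g⁻¹ ∈ T' := ⟨t, ht, rfl⟩
    have hm : k * ⟨g * t * g⁻¹, hT'K htT'⟩ * k⁻¹ ∈ (k • P : Sylow 3 (Ke f)).1 :=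
      ⟨⟨g * t * g⁻¹, hT'K htT'⟩, hPle (x := ⟨g * t * g⁻¹, hT'K htT'⟩) htT', rfl⟩
    rw [hk] at hm
    have hm' : k.1 * (g * t * g⁻¹) * k.1⁻¹ ∈ S := hm
    simpa [hy, mul_assoc] using hm'
  have hyT : T.map (MulAut.conj y).toMonoidHom = T := by
    refine abelian_eq_T hyS ?_ ?_
    · exact (Subgroup.card_map_of_injective (f := (MulAut.conj y).toMonoidHom)
        (MulAut.conj y).injective).trans card_T
    · rintro _ ⟨a, ha, rfl⟩ _ ⟨b, hb, rfl⟩
      obtain ⟨p, rfl⟩ := mem_T_iff.1 ha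
      obtain ⟨q, rfl⟩ := mem_T_iff.1 hb
      rw [← map_mul, ← map_mul, ← dd_add, ← dd_add, add_comm]
  have hyK : (Ke e).map (MulAut.conj y).toMonoidHom = Ke f := by
    rw [hy, map_mul]
    show (Ke e).map ((MulAut.conj k.1).toMonoidHom.comp (MulAut.conj g).toMonoidHom) = Ke f
    rw [← Subgroup.map_map, hg]
    refine Subgroup.eq_of_le_of_card_ge ?_ ?_
    · rintro _ ⟨a, ha, rfl⟩
      exact mul_mem (mul_mem k.2 ha) (inv_mem k.2)
    · exact le_of_eq (Subgroup.card_map_of_injective (f := (MulAut.conj k.1).toMonoidHom)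
        (MulAut.conj k.1).injective).symm
  have hyM : y ∈ Mon := mem_Mon_of_normalizes fun t ht => hyT.le ⟨t, ht, rfl⟩
  obtain ⟨h, hh, s, hs⟩ := Mon_factor hyM
  have ht2 : tau ^ s.1 * tau ^ s.1 = 1 := by
    rw [← (Commute.refl tau).mul_pow, tau, ← map_mul, permTau, Equiv.swap_mul_self, map_one, one_pow]
  have hin : tau ^ s.1 * cd e g1 * tau ^ s.1 ∈ Ke f := by
    have h1 : y * cd e g1 * y⁻¹ ∈ Ke f := hyK.le ⟨_, cd_g1_mem e, rfl⟩
    have h2 := mul_mem (mul_mem (inv_mem (H_le_Ke f hh)) h1) (H_le_Ke f hh)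
    rw [hs, show h⁻¹ * (h * tau ^ s.1 * cd e g1 * (h * tau ^ s.1)⁻¹) * h =
      tau ^ s.1 * cd e g1 * (tau ^ s.1)⁻¹ by group, inv_eq_of_mul_eq_one_right ht2] at h2
    exact h2
  have hk' := pair_index s e f hef
  obtain ⟨k', ks, ke, kf⟩ := hk'
  let k36 : Fin 36 := ⟨30 + k'.1, by omega⟩
  have eg : mat (tau ^ s.1 * cd e g1 * tau ^ s.1) = gC k36 := by
    rw [mat_mul, mat_mul, tau_pow_mat, mat_cd_g1, mul_eq6, mul_eq6]
    have h := eq_of_en (caseN_ok k')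
    simp only [ks, ke] at h
    exact h.symm
  have ef : mat (cd f g1) = fC k36 := by
    rw [mat_cd_g1, fC, kf]
    by_cases h : k'.1 < 2
    · rw [if_pos h, if_pos (show 30 + k'.1 < 32 by omega)]
    · rw [if_neg h, if_neg (show ¬ 30 + k'.1 < 32 by omega)]
  rcases word_result k36 (H_le_Ke f) hin (cd_g1_mem f) eg (Or.inr ef)
    (fun h => absurd h (by simp [k36])) with ⟨hlt, -⟩ | ⟨x, hxK, hxM, hxH⟩
  · exact words_odd k' hlt
  · exact hxH (Ke_inf_Mon f ⟨hxK, hxM⟩)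

end Cfsg.Agent.Lib.U43InU62
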