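import Cfsg.Agent.Lib.U43InU62.Cert

/-! The generators, their actions on frames, and the monomial group inside the subgroup generated. -/

set_option autoImplicit false
set_option maxRecDepth 20000
set_option Elab.async false

namespace Cfsg.Agent.Lib.U43InU62

open Cfsg Matrix
open Cfsg.Agent.Lib.Computation (getW permRep decodeP okPerm decodeP_apply)

theorem unit3_qM (k : Fin 4) : Unit3 (qM k) := by
  ext i j
  rw [Matrix.mul_apply, Fin.sum_univ_three, Matrix.one_apply]
  exact qM_ok k i j

theorem qM_det_mul (i j : Fin 4) : (qM i).det * (qM j).det = 1 := by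
  rw [qM_det, qM_det, one_mul]

/-- A block element of two representatives. -/
def qS (i j : Fin 4) : G6 := blkS (qM i) (qM j) (unit3_qM i) (unit3_qM j) (qM_det_mul i j)

/-- A permutation as an element. -/
def permS : Equiv.Perm (Fin 6) →* G6 where
  toFun σ := monS 1 σ (fun _ => one_ne_zero) (by simp)
  map_one' := mat_injective (by simp [monM_one, mat_one])
  map_mul' σ ρ := mat_injective (by
    rw [mat_mul, mat_monS, mat_monS, mat_monS, monM_mul]
    congr 1)

@[simp] theorem mat_permS (σ : Equiv.Perm (Fin 6)) : mat (permS σ) = monM 1 σ := rfl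

/-- The transposition as an element. -/
def tau : G6 := permS permTau

/-- The first generator. -/
def dS : G6 := monS dvec 1 (by decide +kernel) (by decide +kernel)

/-- The generator outside the monomial group. -/
def g1 : G6 := tau * qS 1 1

/-- The four generators. -/
def gS : Fin 4 → G6 := ![dS, permS permA, permS permB, g1]

theorem mat_gS (g : Fin 4) : mat (gS g) = gmat g := by
  fin_cases g
  · exact (eq_of_en gmat_zero).symm
  · exact (eq_of_en gmat_one).symm
  · exact (eq_of_en gmat_two).symm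
  · show mat (tau * qS 1 1) = _
    rw [mat_mul, mul_eq6]
    exact (eq_of_en gmat_three).symm

theorem mat_inv (x : G6) : mat x⁻¹ = stM (mat x) := by
  have h := (AutPSU.preserving_iff_ct card_k4 (mat x)).1 x.2
  have e : AutPSU.ct card_k4 (mat x) = stM (mat x) := by
    ext i j
    simp [AutPSU.ct, stM, pow_two]
  rw [e] at h
  calc mat x⁻¹ = stM (mat x) * mat x * mat x⁻¹ := by rw [h, Matrix.one_mul]
    _ = stM (mat x) := by rw [Matrix.mul_assoc, mat_mul_inv, Matrix.mul_one]

/-- The subgroup generated. -/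
def K1 : Subgroup G6 := Subgroup.closure (Set.range gS)

theorem gS_mem (g : Fin 4) : gS g ∈ K1 := Subgroup.subset_closure ⟨g, rfl⟩

/-! ### The monomial part -/

theorem permA_closure :
    alternatingGroup (Fin 6) ≤ Subgroup.closure ({permA, permB} : Set (Equiv.Perm (Fin 6))) := by
  have hok : okPerm 6 3 (a6_gens.getD 0 0) = true ∧ okPerm 6 3 (a6_gens.getD 1 0) = true := by
    decide +kernel
  have eA : decodeP 6 3 (a6_gens.getD 0 0) = permA :=
    Equiv.ext fun i => Fin.ext (by rw [decodeP_apply hok.1]; exact (a6_eq i).1.symm)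
  have eB : decodeP 6 3 (a6_gens.getD 1 0) = permB :=
    Equiv.ext fun i => Fin.ext (by rw [decodeP_apply hok.2]; exact (a6_eq i).2.symm)
  have hc := (permRep 6 3 (by decide)).card_closure a6_check
  have ho : (permRep 6 3 (by decide)).order a6_chain = 360 := by decide +kernel
  have himg : (permRep 6 3 (by decide)).val '' {s | s ∈ a6_gens} =
      ({permA, permB} : Set (Equiv.Perm (Fin 6))) := by
    rw [show a6_gens = [a6_gens.getD 0 0, a6_gens.getD 1 0] from rfl]
    ext σ
    constructor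
    · rintro ⟨s, hs, rfl⟩
      simp only [Set.mem_setOf_eq, List.mem_cons, List.not_mem_nil, or_false] at hs
      rcases hs with rfl | rfl
      · exact Or.inl eA
      · exact Or.inr eB
    · rintro (rfl | rfl)
      · exact ⟨_, List.mem_cons_self, eA⟩
      · exact ⟨_, List.mem_cons_of_mem _ List.mem_cons_self, eB⟩
  rw [himg, ho] at hc
  have hle : Subgroup.closure ({permA, permB} : Set (Equiv.Perm (Fin 6))) ≤
      alternatingGroup (Fin 6) := by
    rw [Subgroup.closure_le]
    rintro σ (rfl | rfl) <;> simp only [SetLike.mem_coe, Equiv.Perm.mem_alternatingGroup] <;>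
      decide +kernel
  have h2 := two_mul_nat_card_alternatingGroup (α := Fin 6)
  rw [Nat.card_perm, Nat.card_fin, show Nat.factorial 6 = 720 from rfl] at h2
  exact (Subgroup.eq_of_le_of_card_ge hle (by omega)).ge

theorem permS_mem {σ : Equiv.Perm (Fin 6)} (hσ : σ ∈ alternatingGroup (Fin 6)) :
    permS σ ∈ K1 := by
  have h : Subgroup.closure ({permA, permB} : Set (Equiv.Perm (Fin 6))) ≤ K1.comap permS := by
    rw [Subgroup.closure_le]
    rintro _ (rfl | rfl)
    · exact gS_mem 1
    · exact gS_mem 2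
  exact h (permA_closure hσ)

/-- A power of the root of unity. -/
def ev (n : Fin 3) : K4 := k4 (n.1 + 1)

theorem ev_add : ∀ a b : Fin 3, ev (a + b) = ev a * ev b := by decide +kernel

theorem ev_ne : ∀ a : Fin 3, ev a ≠ 0 := by decide +kernel

theorem exists_ev : ∀ a : K4, a ≠ 0 → ∃ n : Fin 3, ev n = a := by decide +kernel

/-- The exponents of a diagonal element from five free parameters. -/
def expv (p : Fin 5 → Fin 3) : Fin 6 → Fin 3 :=
  ![p 0, p 1 - p 0, p 2 - p 1, p 3 - p 2, p 4 - p 3, -p 4]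

theorem expv_add (p q : Fin 5 → Fin 3) (i : Fin 6) : expv (p + q) i = expv p i + expv q i := by
  fin_cases i <;> simp [expv] <;> abel

theorem expv_prod_vals : ∀ a b c d e : Fin 3,
    ev a * ev (b - a) * ev (c - b) * ev (d - c) * ev (e - d) * ev (-e) = 1 := by decide +kernel

theorem expv_solve : ∀ a b c d e f : Fin 3, ev a * ev b * ev c * ev d * ev e * ev f = 1 →
    ∃ p0 p1 p2 p3 p4 : Fin 3,
      a = p0 ∧ b = p1 - p0 ∧ c = p2 - p1 ∧ d = p3 - p2 ∧ e = p4 - p3 ∧ f = -p4 := by
  decide +kernel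

theorem expv_prod (p : Fin 5 → Fin 3) : ∏ i, ev (expv p i) = 1 := by
  rw [Fin.prod_univ_six]
  exact expv_prod_vals (p 0) (p 1) (p 2) (p 3) (p 4)

/-- A diagonal element. -/
def dd (p : Fin 5 → Fin 3) : G6 :=
  monS (fun i => ev (expv p i)) 1 (fun _ => ev_ne _) (expv_prod p)

theorem dd_add (p q : Fin 5 → Fin 3) : dd (p + q) = dd p * dd q := mat_injective (by
  rw [mat_mul, dd, dd, dd, mat_monS, mat_monS, mat_monS, monM_mul, one_mul]
  congr 1
  funext i
  rw [expv_add, ev_add]
  simp)

theorem dd_zero : dd 0 = 1 := by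
  have h := dd_add 0 0
  rw [add_zero] at h
  exact left_eq_mul.1 h

theorem exists_dd {c : Fin 6 → K4} (hc : ∀ i, c i ≠ 0) (hp : ∏ i, c i = 1) :
    ∃ p, c = fun i => ev (expv p i) := by
  choose n hn using fun i => exists_ev _ (hc i)
  rw [Fin.prod_univ_six, ← hn 0, ← hn 1, ← hn 2, ← hn 3, ← hn 4, ← hn 5] at hp
  obtain ⟨p0, p1, p2, p3, p4, e⟩ := expv_solve _ _ _ _ _ _ hp
  refine ⟨![p0, p1, p2, p3, p4], funext fun i => ?_⟩
  rw [← hn i]
  congr 1
  fin_cases i
  exacts [e.1, e.2.1, e.2.2.1, e.2.2.2.1, e.2.2.2.2.1, e.2.2.2.2.2]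

theorem mem_T_iff {x : G6} : x ∈ T ↔ ∃ p, x = dd p := by
  constructor
  · rintro ⟨c, σ, hσ, hc, -, e⟩
    obtain rfl : σ = 1 := Subgroup.mem_bot.1 hσ
    obtain ⟨p, rfl⟩ := exists_dd hc (prod_of_mat e)
    exact ⟨p, mat_injective e⟩
  · rintro ⟨p, rfl⟩
    exact ⟨_, 1, one_mem _, fun _ => ev_ne _, trivial, rfl⟩

/-- Even permutations moving the first two points to consecutive ones. -/
def shiftPerm (k : Fin 5) : Equiv.Perm (Fin 6) := permA ^ k.1

/-- Even permutation for the last pair. -/
def lastPerm : Equiv.Perm (Fin 6) := permOf [(0, 4), (1, 5)]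

/-- The chosen permutations. -/
def stepPerm (k : Fin 5) : Equiv.Perm (Fin 6) := if k = 4 then lastPerm else shiftPerm k

theorem stepPerm_even : ∀ k, Equiv.Perm.sign (stepPerm k) = 1 := by decide +kernel

theorem stepPerm_spec : ∀ k : Fin 5, ∀ i : Fin 6,
    dvec ((stepPerm k)⁻¹ i) = ev (expv (Pi.single k 1) i) := by decide +kernel

theorem dd_single_one (k : Fin 5) :
    dd (Pi.single k 1) = permS (stepPerm k) * dS * (permS (stepPerm k))⁻¹ := by
  rw [eq_mul_inv_iff_mul_eq]
  apply mat_injective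
  rw [mat_mul, mat_mul, mat_permS, dd, dS, mat_monS, mat_monS, monM_mul, monM_mul, one_mul, mul_one]
  congr 1
  funext i
  simp only [Pi.one_apply, mul_one, one_mul]
  exact (stepPerm_spec k i).symm

theorem dd_mem (p : Fin 5 → Fin 3) : dd p ∈ K1 := by
  have h1 : ∀ k : Fin 5, dd (Pi.single k 1) ∈ K1 := by
    intro k
    rw [dd_single_one]
    have hσ := permS_mem (Equiv.Perm.mem_alternatingGroup.2 (stepPerm_even k))
    exact mul_mem (mul_mem hσ (gS_mem 0)) (inv_mem hσ)
  have h2 : ∀ (k : Fin 5) (m : Fin 3), dd (Pi.single k m) ∈ K1 := by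
    intro k m
    fin_cases m
    · simp [dd_zero]
    · exact h1 k
    · show dd (Pi.single k (1 + 1)) ∈ K1
      rw [Pi.single_add, dd_add]
      exact mul_mem (h1 k) (h1 k)
  let s : Fin 5 → Fin 5 → Fin 3 := fun k => Pi.single k (p k)
  have e : p = s 0 + s 1 + s 2 + s 3 + s 4 := by
    simp only [s]
    funext i
    fin_cases i <;> simp
  rw [e, dd_add, dd_add, dd_add, dd_add]
  exact mul_mem (mul_mem (mul_mem (mul_mem (h2 _ _) (h2 _ _)) (h2 _ _)) (h2 _ _)) (h2 _ _)

theorem H_le_K1 : H ≤ K1 := by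
  rintro x ⟨c, σ, hσ, hc, -, e⟩
  obtain ⟨p, rfl⟩ := exists_dd hc (prod_of_mat e)
  have ex : x = dd p * permS σ := mat_injective (by
    rw [mat_mul, dd, mat_monS, mat_permS, monM_mul, one_mul, e]
    congr 1
    funext i
    simp)
  rw [ex]
  exact mul_mem (dd_mem p) (permS_mem hσ)

/-! ### Frames -/

/-- An element carries one frame to another. -/
def MapsFrame (x : G6) (j k : Fin 112) : Prop :=
  ∀ i : Fin 6, ∃ (i' : Fin 6) (t : K4), mat x *ᵥ fv j i = t • fv k i'

theorem frame_norm : ∀ j : Fin 112, ∀ i : Fin 6, h6 (fv j i) (fv j i) = 1 := by decide +kernel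

theorem fv_herm (j : Fin 112) (a b : Fin 6) :
    hermForm 6 K4 2 (fv j a) (fv j b) = if a = b then 1 else 0 := by
  rw [herm_eq6]
  split_ifs with h
  · subst h; exact frame_norm j a
  · exact frame_orth j a b h

theorem MapsFrame.surj {x : G6} {j k : Fin 112} (h : MapsFrame x j k) (i' : Fin 6) :
    ∃ (i : Fin 6) (t : K4), t ≠ 0 ∧ mat x *ᵥ fv j i = t • fv k i' := by
  choose φ t ht using h
  have key : ∀ a b : Fin 6, (if a = b then (1 : K4) else 0) =
      t a * (t b ^ 2 * if φ a = φ b then 1 else 0) := fun a b => by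
    rw [← fv_herm j a b, ← mat_herm x, ht, ht, Unitary.herm_smul_left, Unitary.herm_smul_right,
      fv_herm]
  have tne : ∀ a, t a ≠ 0 := fun a h0 => by
    have := key a a
    simp [h0] at this
  have hinj : Function.Injective φ := by
    intro a b hab
    by_contra hne
    have := key a b
    rw [if_neg hne, if_pos hab, mul_one] at this
    exact mul_ne_zero (tne a) (pow_ne_zero _ (tne b)) this.symm
  obtain ⟨i, rfl⟩ := (Finite.injective_iff_surjective.1 hinj) i'
  exact ⟨i, t i, tne i, ht i⟩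

theorem MapsFrame.unique {x : G6} {j k k' : Fin 112} (h : MapsFrame x j k)
    (h' : MapsFrame x j k') : k = k' := by
  rcases frames_differ k k' with e | ⟨h1, h2, h3, hab, ha, hb⟩
  · exact e
  exfalso
  obtain ⟨i, t, ht, e⟩ := h.surj ⟨_, h1⟩
  obtain ⟨i', t', e'⟩ := h' i
  rw [e'] at e
  have hv : fv k ((⟨_, h1⟩ : Fin 6) : ℕ) = (t⁻¹ * t') • fv k' i' := by
    rw [mul_smul, e, inv_smul_smul₀ ht]
  simp only at hv
  rw [hv, ← herm_eq6, Unitary.herm_smul_left] at ha hb
  rw [show (fv k' (dw k k' / 8 % 8)) = fv k' ((⟨_, h2⟩ : Fin 6) : ℕ) from rfl, fv_herm] at ha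
  rw [show (fv k' (dw k k' / 64)) = fv k' ((⟨_, h3⟩ : Fin 6) : ℕ) from rfl, fv_herm] at hb
  split_ifs at ha hb with p q
  · exact hab (congrArg Fin.val (p.symm.trans q))
  all_goals simp at ha hb

theorem MapsFrame.mul {x y : G6} {j k l : Fin 112} (hy : MapsFrame y j k) (hx : MapsFrame x k l) :
    MapsFrame (x * y) j l := by
  intro i
  obtain ⟨i', t, e⟩ := hy i
  obtain ⟨i'', t', e'⟩ := hx i'
  exact ⟨i'', t * t', by
    rw [mat_mul, ← Matrix.mulVec_mulVec, e, Matrix.mulVec_smul, e', smul_smul]⟩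

theorem MapsFrame.one (j : Fin 112) : MapsFrame 1 j j := fun i =>
  ⟨i, 1, by rw [mat_one, Matrix.one_mulVec, one_smul]⟩

theorem gS_maps (g : Fin 4) (j : Fin 112) :
    MapsFrame (gS g) j ⟨_, (frame_ok g j).1⟩ := by
  intro i
  obtain ⟨h, hx⟩ := (frame_ok g j).2 i
  refine ⟨⟨_, h⟩, imgFac g j i, ?_⟩
  rw [mat_gS, mulVec_eq6]
  funext x
  simpa using hx x

theorem K1_maps {x : G6} (hx : x ∈ K1) (j : Fin 112) : ∃ k, MapsFrame x j k := by
  have hm : x ∈ Submonoid.closure (Set.range gS) := by
    rw [← Subgroup.closure_toSubmonoid_of_finite]; exact hx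
  clear hx
  revert j
  induction hm using Submonoid.closure_induction with
  | mem x hx => obtain ⟨g, rfl⟩ := hx; exact fun j => ⟨_, gS_maps g j⟩
  | one => exact fun j => ⟨j, MapsFrame.one j⟩
  | mul x y hx hy ihx ihy =>
    intro j
    obtain ⟨k, hk⟩ := ihy j
    obtain ⟨l, hl⟩ := ihx k
    exact ⟨l, hk.mul hl⟩

/-- The label of the image of a frame. -/
noncomputable def img (x : K1) (j : Fin 112) : Fin 112 := (K1_maps x.2 j).choose

theorem img_spec (x : K1) (j : Fin 112) : MapsFrame x j (img x j) :=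
  (K1_maps x.2 j).choose_spec

theorem img_eq {x : K1} {j k : Fin 112} (h : MapsFrame x j k) : img x j = k :=
  (img_spec x j).unique h

/-- The action on the labels of the frames. -/
noncomputable def rho : K1 →* Equiv.Perm (Fin 112) where
  toFun x :=
    { toFun := img x
      invFun := img x⁻¹
      left_inv := fun j => img_eq (by
        have h := (MapsFrame.one j)
        obtain ⟨k, hk⟩ := K1_maps (x⁻¹).2 (img x j)
        have := ((img_spec x j).mul hk).unique (by
          rw [Subgroup.coe_inv, inv_mul_cancel]; exact h)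
        exact this ▸ hk)
      right_inv := fun j => img_eq (by
        have h := (MapsFrame.one j)
        obtain ⟨k, hk⟩ := K1_maps x.2 (img x⁻¹ j)
        have := ((img_spec x⁻¹ j).mul hk).unique (by
          rw [Subgroup.coe_inv, mul_inv_cancel]; exact h)
        exact this ▸ hk) }
  map_one' := Equiv.ext fun j => img_eq (MapsFrame.one j)
  map_mul' x y := Equiv.ext fun j => img_eq ((img_spec y j).mul (img_spec x _))

theorem rho_apply (x : K1) (j : Fin 112) : rho x j = img x j := rfl

theorem rho_gS (g : Fin 4) (j : Fin 112) :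
    rho ⟨gS g, gS_mem g⟩ j = ⟨_, (frame_ok g j).1⟩ := img_eq (gS_maps g j)

theorem rho_transitive (j : Fin 112) : ∃ x : K1, rho x 0 = j := by
  suffices H : ∀ d, ∀ j : Fin 112, getW 16 par4 j >>> 9 = d → ∃ x : K1, rho x 0 = j from H _ j rfl
  intro d
  induction d using Nat.strong_induction_on with
  | _ d ih =>
    intro j hd
    rcases par_ok4 j with h | ⟨hp, hg, hj, hlt⟩
    · exact ⟨1, by rw [map_one]; exact (Fin.ext h).symm⟩
    · obtain ⟨x, hx⟩ := ih _ (hd ▸ hlt) ⟨_, hp⟩ rfl
      refine ⟨⟨gS ⟨_, hg⟩, gS_mem _⟩ * x, ?_⟩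
      rw [map_mul, Equiv.Perm.mul_apply, hx, rho_gS]
      exact Fin.ext hj

theorem mapsFrame_zero_iff {x : G6} : MapsFrame x 0 0 ↔ x ∈ Mon := by
  have hf : ∀ i : Fin 6, fv (0 : Fin 112) i = Pi.single i (1 : K4) := fun i => funext fun a => by
    show fv 0 i a = _
    rw [frame_zero i a, Pi.single_apply]
  constructor
  · intro h
    choose f t hft using h
    have hcol : ∀ i a, mat x a i = if f i = a then t i else 0 := by
      intro i a
      have e := congrFun (hft i) a
      rw [hf, hf, Matrix.mulVec_single_one] at e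
      simp only [Pi.smul_apply, Pi.single_apply, smul_eq_mul, mul_ite, mul_one, mul_zero] at e
      rw [show mat x a i = (mat x).col i a from rfl, e]
      exact if_congr eq_comm rfl rfl
    have hsurj : Function.Surjective f := by
      intro a
      by_contra ha
      push Not at ha
      have : (mat x).det = 0 := Matrix.det_eq_zero_of_row_eq_zero a fun i => by
        rw [hcol, if_neg (ha i)]
      rw [det_mat] at this
      exact one_ne_zero this
    let σ : Equiv.Perm (Fin 6) :=
      Equiv.ofBijective f ⟨Finite.injective_iff_surjective.2 hsurj, hsurj⟩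
    have e : mat x = monM (fun a => t (σ⁻¹ a)) σ := by
      ext a i
      rw [hcol, monM_apply]
      by_cases h : f i = a
      · rw [if_pos h, if_pos (show σ i = a from h), ← show σ i = a from h]
        simp
      · rw [if_neg h, if_neg (show ¬ σ i = a from h)]
    refine ⟨_, σ, trivial, fun a => ?_, trivial, e⟩
    intro ha
    have h0 := prod_of_mat e
    rw [Finset.prod_eq_zero (Finset.mem_univ a) ha] at h0
    exact zero_ne_one h0
  · rintro ⟨c, σ, -, -, -, e⟩ i
    refine ⟨σ i, c (σ i), ?_⟩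
    rw [hf, hf, Matrix.mulVec_single_one, e]
    funext a
    simp only [Matrix.col_apply, monM_apply, Pi.smul_apply, Pi.single_apply, smul_eq_mul, mul_ite,
      mul_one, mul_zero]
    by_cases h : σ i = a
    · rw [if_pos h, if_pos h.symm, h]
    · rw [if_neg h, if_neg (Ne.symm h)]

/-! ### Only scalars fix the frames -/

/-- The scalar elements. -/
def Zs : Subgroup G6 :=
  monSub ⊥ (fun c => ∀ i, c i = c 0) (fun _ => rfl) fun c d σ hσ hc hd i => by
    obtain rfl : σ = 1 := Subgroup.mem_bot.1 hσ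
    show c i * d _ = c 0 * d _
    rw [hc i]; simp [hd i]

theorem supp_map {x : G6} {c : Fin 6 → K4} {σ : Equiv.Perm (Fin 6)} (e : mat x = monM c σ)
    (v : Fin 6 → K4) (a : Fin 6) : (mat x *ᵥ v) (σ a) = c (σ a) * v a := by
  rw [e, Matrix.mulVec, dotProduct, Finset.sum_eq_single a]
  · simp [monM_apply]
  · intro b _ hb
    rw [monM_apply, if_neg (fun h => hb (σ.injective h)), zero_mul]
  · simp

theorem mem_Zs_of_fix {x : G6} (h : ∀ j, MapsFrame x j j) : x ∈ Zs := by
  obtain ⟨c, σ, -, hc, -, e⟩ := mapsFrame_zero_iff.1 (h 0)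
  have hk : Keeps σ := by
    intro k
    obtain ⟨hj, hi, hs, hb⟩ := split_ok k
    obtain ⟨i', t, et⟩ := h ⟨_, hj⟩ ⟨_, hi⟩
    obtain ⟨fl, hfl⟩ := hb i'
    refine ⟨fl, fun a => ?_⟩
    have hv := congrFun et (σ a)
    rw [supp_map e] at hv
    simp only [Pi.smul_apply, smul_eq_mul] at hv
    have tne : t ≠ 0 := by
      intro h0
      obtain ⟨b, hb'⟩ := frame_ne ⟨_, hj⟩ ⟨_, hi⟩
      have := congrFun et (σ b)
      rw [supp_map e] at this
      simp [h0, hc] at this
      exact hb' this
    have h3 : (fv (splitFrame k) (splitVec k) a ≠ 0) ↔ (fv (splitFrame k) i' (σ a) ≠ 0) := by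
      constructor
      · intro ha h0
        rw [h0, mul_zero] at hv
        exact mul_ne_zero (hc _) ha hv
      · intro ha h0
        rw [h0, mul_zero] at hv
        exact mul_ne_zero tne ha hv.symm
    have h4 := hfl (σ a)
    rw [decide_eq_decide.2 h3.symm, ← hs a] at h4
    rw [h4, ← Bool.xor_assoc, Bool.xor_self, Bool.false_xor]
  have hid : σ = 1 := by
    have hd : ∀ {a b : Fin 6}, a ≠ b → σ a ≠ σ b := fun h he => h (σ.injective he)
    have hf : (σ : Fin 6 → Fin 6) = ![σ 0, σ 1, σ 2, σ 3, σ 4, σ 5] := by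
      funext a; fin_cases a <;> rfl
    rw [hf] at hk
    obtain ⟨e0, e1, e2, e3, e4, e5⟩ := keeps_id (σ 0) (σ 1) (hd (by decide)) (σ 2) (hd (by decide))
      (hd (by decide)) (σ 3) (hd (by decide)) (hd (by decide)) (hd (by decide)) (σ 4)
      (hd (by decide)) (hd (by decide)) (hd (by decide)) (hd (by decide)) (σ 5) (hd (by decide))
      (hd (by decide)) (hd (by decide)) (hd (by decide)) (hd (by decide)) hk
    refine Equiv.ext fun a => ?_
    fin_cases a <;> assumption
  subst hid
  choose n hn using fun i => exists_ev _ (hc i)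
  refine ⟨c, 1, one_mem _, hc, ?_, e⟩
  rcases diag_detect (n 1 - n 0) (n 2 - n 0) (n 3 - n 0) (n 4 - n 0) (n 5 - n 0) with
    ⟨a, b, c', d, f⟩ | ⟨w, hj, hi, hne⟩
  · intro i
    have : ∀ i, n i = n 0 := by
      intro i
      fin_cases i
      exacts [rfl, sub_eq_zero.1 a, sub_eq_zero.1 b, sub_eq_zero.1 c', sub_eq_zero.1 d,
        sub_eq_zero.1 f]
    rw [← hn i, ← hn 0, this i]
  · exfalso
    obtain ⟨i', t, et⟩ := h ⟨_, hj⟩ ⟨_, hi⟩
    obtain ⟨a, ha⟩ := hne i' (ev (-n 0) * t)
    apply ha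
    have hv := congrFun et ((1 : Equiv.Perm (Fin 6)) a)
    rw [supp_map e] at hv
    simp only [Pi.smul_apply, smul_eq_mul, Equiv.Perm.one_apply] at hv
    rw [mul_assoc, ← hv, ← mul_assoc, ← hn a, ← ev_add]
    congr 1
    fin_cases a <;> simp [fiveC, ev, neg_add_eq_sub] <;> rfl

end Cfsg.Agent.Lib.U43InU62
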