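import Cfsg.Agent.Lib.U43InU62.Cert

/-! Three-dimensional unitary matrices over four elements are monomial multiples of four matrices. -/

set_option autoImplicit false
set_option maxRecDepth 20000
set_option Elab.async false

namespace Cfsg.Agent.Lib.U43InU62

open Cfsg Matrix

/-- The form in three coordinates. -/
def h3 (a0 a1 a2 b0 b1 b2 : K4) : K4 := a0 * (b0 * b0) + a1 * (b1 * b1) + a2 * (b2 * b2)

/-- An entry of the product with the inverse of a representative. -/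
def qProd (k : Fin 4) (r0 r1 r2 : K4) (j : Fin 3) : K4 :=
  r0 * (qM k j 0 * qM k j 0) + r1 * (qM k j 1 * qM k j 1) + r2 * (qM k j 2 * qM k j 2)

/-- The product with the inverse of a representative has one non-zero entry in each column. -/
def MonBy (k : Fin 4) (a0 a1 a2 b0 b1 b2 c0 c1 c2 : K4) : Prop :=
  ∀ j : Fin 3, (qProd k a0 b0 c0 j = 0 ∧ qProd k a1 b1 c1 j = 0) ∨
    (qProd k a0 b0 c0 j = 0 ∧ qProd k a2 b2 c2 j = 0) ∨
    (qProd k a1 b1 c1 j = 0 ∧ qProd k a2 b2 c2 j = 0)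

instance monByDecidable (k : Fin 4) (a0 a1 a2 b0 b1 b2 c0 c1 c2 : K4) :
    Decidable (MonBy k a0 a1 a2 b0 b1 b2 c0 c1 c2) := by
  unfold MonBy; infer_instance

set_option synthInstance.maxSize 5000 in
set_option synthInstance.maxHeartbeats 2000000 in
theorem gu3_monBy : ∀ a0 a1 a2 : K4, h3 a0 a1 a2 a0 a1 a2 = 1 → ∀ b0 b1 b2 : K4,
    h3 b0 b1 b2 b0 b1 b2 = 1 → h3 a0 a1 a2 b0 b1 b2 = 0 → ∀ c0 c1 c2 : K4,
    h3 c0 c1 c2 c0 c1 c2 = 1 → h3 a0 a1 a2 c0 c1 c2 = 0 → h3 b0 b1 b2 c0 c1 c2 = 0 →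
    ∃ k : Fin 4, MonBy k a0 a1 a2 b0 b1 b2 c0 c1 c2 := by decide +kernel

end Cfsg.Agent.Lib.U43InU62
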