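import Cfsg.Agent.Lib.U43InU62.Model

/-!
The normaliser of the diagonal group is monomial, and elementary abelian subgroups of order `3 ^ 5`
are conjugate to the diagonal group.
-/

set_option autoImplicit false

namespace Cfsg.Agent.Lib.U43InU62

open Cfsg Matrix Module

/-- A matrix of the group with at most one non-zero entry in each column is monomial. -/
theorem mem_Mon_of_cols {x : G6}
    (hone : ∀ k i i', mat x i k ≠ 0 → mat x i' k ≠ 0 → i = i') : x ∈ Mon := by
  rw [← mapsFrame_zero_iff]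
  intro k
  obtain ⟨i, hi⟩ : ∃ i, mat x i k ≠ 0 := by
    by_contra hall
    push Not at hall
    have h0 := det_mat x
    rw [Matrix.det_eq_zero_of_column_eq_zero k hall] at h0
    exact zero_ne_one h0
  have hf : ∀ i : Fin 6, fv (0 : Fin 112) i = Pi.single i (1 : K4) := fun i => funext fun a => by
    show fv 0 i a = _
    rw [frame_zero i a, Pi.single_apply]
  refine ⟨i, mat x i k, ?_⟩
  rw [hf, hf, Matrix.mulVec_single_one]
  funext r
  simp only [Matrix.col_apply, Pi.smul_apply, Pi.single_apply, smul_eq_mul, mul_ite, mul_one,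
    mul_zero]
  by_cases hr : r = i
  · rw [if_pos hr, hr]
  · rw [if_neg hr]
    by_contra h0
    exact hr (hone k r i h0 hi)


theorem mem_Mon_of_normalizes {x : G6} (h : ∀ t ∈ T, x * t * x⁻¹ ∈ T) : x ∈ Mon := by
  have hmap : T.map (MulAut.conj x).toMonoidHom = T := by
    refine Subgroup.eq_of_le_of_card_ge ?_ ?_
    · rintro _ ⟨t, ht, rfl⟩
      simpa using h t ht
    · exact le_of_eq (Subgroup.card_map_of_injective (f := (MulAut.conj x).toMonoidHom)
        (MulAut.conj x).injective).symm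
  have hsep : ∀ i j : Fin 6, i ≠ j → ∃ a b c d e : Fin 3,
      ev (expv ![a, b, c, d, e] i) ≠ ev (expv ![a, b, c, d, e] j) := by decide +kernel
  have hone : ∀ k i i', mat x i k ≠ 0 → mat x i' k ≠ 0 → i = i' := by
    intro k i i' hi hi'
    by_contra hne
    obtain ⟨a, b, c, d, e, hs⟩ := hsep i i' hne
    have hp : dd ![a, b, c, d, e] ∈ T.map (MulAut.conj x).toMonoidHom :=
      hmap.symm ▸ mem_T_iff.2 ⟨_, rfl⟩
    obtain ⟨t, ht, et⟩ := hp
    obtain ⟨q, rfl⟩ := mem_T_iff.1 ht
    have em : x * dd q = dd ![a, b, c, d, e] * x := by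
      rw [← et]; simp [MulAut.conj_apply]
    have key : ∀ r, mat x r k * ev (expv q k) = ev (expv ![a, b, c, d, e] r) * mat x r k := by
      intro r
      have := congrArg (fun z => mat z r k) em
      simpa only [mat_mul, dd, mat_monS, monM_diag, Matrix.diagonal_mul, Matrix.mul_diagonal] using this
    apply hs
    rw [← mul_right_cancel₀ hi ((mul_comm _ _).trans (key i)),
      ← mul_right_cancel₀ hi' ((mul_comm _ _).trans (key i'))]
  exact mem_Mon_of_cols hone

/-- Common eigenvectors of a list of elements. -/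
def eigSet (l : List G6) : Set (Fin 6 → K4) :=
  {v | ∀ a ∈ l, ∃ r : K4, mat a *ᵥ v = r • v}

theorem span_eig : ∀ l : List G6, (∀ a ∈ l, a ^ 3 = 1) → (∀ a ∈ l, ∀ b ∈ l, a * b = b * a) →
    Submodule.span K4 (eigSet l) = ⊤
  | [], _, _ => by simp [eigSet]
  | a :: l, h3, hc => by
    have ih := span_eig l (fun b hb => h3 b (List.mem_cons_of_mem _ hb))
      (fun b hb c hc' => hc b (List.mem_cons_of_mem _ hb) c (List.mem_cons_of_mem _ hc'))
    rw [eq_top_iff, ← ih, Submodule.span_le]
    intro v hv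
    have ha3 : mat a *ᵥ (mat a *ᵥ (mat a *ᵥ v)) = v := by
      rw [Matrix.mulVec_mulVec, Matrix.mulVec_mulVec, Matrix.mul_assoc, ← mat_mul, ← mat_mul,
        show a * (a * a) = 1 from by rw [← h3 a List.mem_cons_self, pow_three],
        mat_one, Matrix.one_mulVec]
    let v1 := mat a *ᵥ v
    let v2 := mat a *ᵥ v1
    have hsum : ∀ x y z : K4, x = (x + y + z) + (x + k4 2 * y + k4 3 * z) + (x + k4 3 * y + k4 2 * z) := by
      decide +kernel
    have hrot : ∀ x y z : K4,
        (y + k4 2 * z + k4 3 * x = k4 3 * (x + k4 2 * y + k4 3 * z)) ∧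
        (y + k4 3 * z + k4 2 * x = k4 2 * (x + k4 3 * y + k4 2 * z)) := by decide +kernel
    have e : v = (v + v1 + v2) + (v + k4 2 • v1 + k4 3 • v2) + (v + k4 3 • v1 + k4 2 • v2) := by
      funext i
      simpa using hsum (v i) (v1 i) (v2 i)
    have hl : ∀ b ∈ l, ∀ c d : K4, ∃ r : K4,
        mat b *ᵥ (v + c • v1 + d • v2) = r • (v + c • v1 + d • v2) := by
      intro b hb c d
      obtain ⟨r, hr⟩ := hv b hb
      refine ⟨r, ?_⟩
      have hcm : ∀ w, mat b *ᵥ (mat a *ᵥ w) = mat a *ᵥ (mat b *ᵥ w) := fun w => by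
        rw [Matrix.mulVec_mulVec, Matrix.mulVec_mulVec, ← mat_mul, ← mat_mul,
          hc b (List.mem_cons_of_mem _ hb) a List.mem_cons_self]
      simp only [v1, v2, Matrix.mulVec_add, Matrix.mulVec_smul, hcm, hr, smul_add, smul_comm r]
    rw [e]
    refine add_mem (add_mem ?_ ?_) ?_ <;> refine Submodule.subset_span fun b hb => ?_
    · rcases List.mem_cons.1 hb with rfl | hb
      · refine ⟨1, ?_⟩
        simp only [v1, v2, Matrix.mulVec_add, ha3, one_smul]
        abel
      · simpa using hl b hb 1 1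
    · rcases List.mem_cons.1 hb with rfl | hb
      · refine ⟨k4 3, ?_⟩
        simp only [v1, v2, Matrix.mulVec_add, Matrix.mulVec_smul, ha3]
        funext i
        simpa using (hrot (v i) ((mat b *ᵥ v) i) ((mat b *ᵥ (mat b *ᵥ v)) i)).1
      · exact hl b hb _ _
    · rcases List.mem_cons.1 hb with rfl | hb
      · refine ⟨k4 2, ?_⟩
        simp only [v1, v2, Matrix.mulVec_add, Matrix.mulVec_smul, ha3]
        funext i
        simpa using (hrot (v i) ((mat b *ᵥ v) i) ((mat b *ᵥ (mat b *ᵥ v)) i)).2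
      · exact hl b hb _ _

/-- An abelian subgroup of exponent three and order `243` is conjugate to the diagonal group. -/
theorem conj_to_T (A : Subgroup G6) (hcard : Nat.card A = 243)
    (hc : ∀ a ∈ A, ∀ b ∈ A, a * b = b * a) (h3 : ∀ a ∈ A, a ^ 3 = 1) :
    ∃ g : G6, A.map (MulAut.conj g).toMonoidHom = T := by
  classical
  haveI : Fintype A := Fintype.ofFinite _
  let l : List G6 := ((Finset.univ : Finset A).toList).map Subtype.val
  have hl : ∀ a, a ∈ l ↔ a ∈ A := fun a => by
    constructor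
    · intro h
      obtain ⟨b, -, rfl⟩ := List.mem_map.1 h
      exact b.2
    · exact fun h => List.mem_map.2 ⟨⟨a, h⟩, Finset.mem_toList.2 (Finset.mem_univ _), rfl⟩
  have hspan := span_eig l (fun a ha => h3 a ((hl a).1 ha))
    (fun a ha b hb => hc a ((hl a).1 ha) b ((hl b).1 hb))
  obtain ⟨f, hf, -, hli⟩ := Submodule.exists_fun_fin_finrank_span_eq K4 (eigSet l)
  have hdim : Module.finrank K4 (Submodule.span K4 (eigSet l)) = 6 := by
    rw [hspan, finrank_top, Module.finrank_fin_fun]
  let v : Fin 6 → Fin 6 → K4 := fun i => f (Fin.cast hdim.symm i)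
  have hvli : LinearIndependent K4 v := hli.comp _ (Fin.cast_injective _)
  have hv : ∀ i, ∀ a : A, ∃ r : K4, mat a.1 *ᵥ v i = r • v i := fun i a =>
    hf _ a.1 ((hl _).2 a.2)
  choose χ hχ using hv
  let P : Matrix (Fin 6) (Fin 6) K4 := Matrix.of fun r i => v i r
  have hP : IsUnit P := by
    rw [← Matrix.linearIndependent_cols_iff_isUnit]
    exact hvli
  have hPd : P.det ≠ 0 := ((Matrix.isUnit_iff_isUnit_det P).1 hP).ne_zero
  have hAP : ∀ a : A, mat a.1 * P = P * Matrix.diagonal fun i => χ i a := by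
    intro a
    ext r i
    rw [Matrix.mul_diagonal]
    have := congrFun (hχ i a) r
    simp only [Pi.smul_apply, smul_eq_mul] at this
    rw [Matrix.mul_apply, show P r i = v i r from rfl, mul_comm (v i r), ← this]
    rfl
  have hprod : ∀ a, ∏ i, χ i a = 1 := by
    intro a
    have := congrArg Matrix.det (hAP a)
    rw [Matrix.det_mul, Matrix.det_mul, det_mat, one_mul, Matrix.det_diagonal] at this
    exact (mul_right_eq_self₀.1 this.symm).resolve_right hPd
  have hne : ∀ a i, χ i a ≠ 0 := fun a i h0 => by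
    have := hprod a
    rw [Finset.prod_eq_zero (f := fun i => χ i a) (Finset.mem_univ i) h0] at this
    exact zero_ne_one this
  let Φ : A → T := fun a =>
    ⟨monS (fun i => χ i a) 1 (hne a) (hprod a), _, 1, one_mem _, hne a, trivial, rfl⟩
  have hΦ : Function.Injective Φ := by
    intro a b h
    have h' : monM (fun i => χ i a) 1 = monM (fun i => χ i b) 1 :=
      congrArg (fun z : T => mat z.1) h
    rw [monM_diag, monM_diag] at h'
    have e : mat a.1 * P = mat b.1 * P := by rw [hAP, hAP, h']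
    exact Subtype.ext (mat_injective (hP.mul_right_cancel e))
  have hsurj : Function.Surjective Φ := by
    refine (Nat.bijective_iff_injective_and_card Φ).2 ⟨hΦ, ?_⟩ |>.2
    rw [hcard, card_T]
  have hchar : ∀ i j : Fin 6, i ≠ j → ∃ a, χ i a ≠ χ j a := by
    intro i j hij
    have hsep : ∀ i j : Fin 6, i ≠ j → ∃ a b c d e : Fin 3,
        ev (expv ![a, b, c, d, e] i) ≠ ev (expv ![a, b, c, d, e] j) := by decide +kernel
    obtain ⟨a, b, c, d, e, hs⟩ := hsep i j hij
    obtain ⟨x, hx⟩ := hsurj ⟨dd ![a, b, c, d, e], mem_T_iff.2 ⟨_, rfl⟩⟩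
    refine ⟨x, ?_⟩
    obtain ⟨hcc, -⟩ := monM_injective (hne x) (congrArg (fun z : T => mat z.1) hx :
      monM (fun i => χ i x) 1 = monM _ 1)
    rw [show χ i x = _ from congrFun hcc i, show χ j x = _ from congrFun hcc j]
    exact hs
  have horth : ∀ i j, i ≠ j → hermForm 6 K4 2 (v i) (v j) = 0 := by
    intro i j hij
    obtain ⟨a, ha⟩ := hchar i j hij
    have h := mat_herm a.1 (v i) (v j)
    rw [hχ, hχ, Unitary.herm_smul_left, Unitary.herm_smul_right, ← mul_assoc] at h
    by_contra h0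
    have h1 : χ i a * χ j a ^ 2 = 1 :=
      mul_right_cancel₀ h0 (h.trans (one_mul _).symm)
    have hdet : ∀ x y : K4, x * y ^ 2 = 1 → x = y := by decide +kernel
    exact ha (hdet _ _ h1)
  have hnorm : ∀ i, hermForm 6 K4 2 (v i) (v i) = 1 := by
    intro i
    have hfix : ∀ x : K4, x ^ 2 = x → x ≠ 0 → x = 1 := by decide +kernel
    refine hfix _ (Unitary.herm_self_fixed _ card_k4) ?_
    intro h0
    refine hvli.ne_zero i (Unitary.herm_nondeg_left card_k4 fun w => ?_)
    have hw : w ∈ Submodule.span K4 (Set.range v) := by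
      rw [hvli.span_eq_top_of_card_eq_finrank (by simp)]
      exact Submodule.mem_top
    obtain ⟨c, rfl⟩ := (Submodule.mem_span_range_iff_exists_fun K4).1 hw
    rw [Unitary.herm_sum_right _ card_k4]
    refine Finset.sum_eq_zero fun j _ => ?_
    rw [Unitary.herm_smul_right]
    by_cases hij : i = j
    · subst hij; rw [h0, mul_zero]
    · rw [horth i j hij, mul_zero]
  let d : Fin 6 → K4 := fun i => if i = 0 then P.det⁻¹ else 1
  have hd : ∀ i, d i ≠ 0 := fun i => by
    simp only [d]; split_ifs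
    · exact inv_ne_zero hPd
    · exact one_ne_zero
  let Q : Matrix (Fin 6) (Fin 6) K4 := P * Matrix.diagonal d
  have hQdet : Q.det = 1 := by
    rw [Matrix.det_mul, Matrix.det_diagonal, Finset.prod_eq_single (0 : Fin 6)
      (fun b _ hb => by simp [d, hb]) (by simp)]
    simp [d, hPd]
  have hQ : ∀ u w, hermForm 6 K4 2 (Q *ᵥ u) (Q *ᵥ w) = hermForm 6 K4 2 u w := by
    rw [AutPSU.preserving_iff_ct card_k4]
    ext i j
    have hcol : ∀ i, (fun r => Q r i) = d i • v i := fun i => funext fun r => by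
      simp [Q, P, Matrix.mul_diagonal, mul_comm]
    have h := congrArg₂ (hermForm 6 K4 2) (hcol j) (hcol i)
    rw [Unitary.herm_smul_left, Unitary.herm_smul_right] at h
    have e : (AutPSU.ct card_k4 Q * Q) i j =
        hermForm 6 K4 2 (fun r => Q r j) (fun r => Q r i) := by
      simp [AutPSU.ct, Matrix.mul_apply, hermForm, mul_comm]
    rw [e, h, Matrix.one_apply]
    by_cases hij : i = j
    · subst hij; rw [hnorm, mul_one, if_pos rfl]; exact k4_herm _ (hd i)
    · rw [horth j i (Ne.symm hij), mul_zero, mul_zero, if_neg hij]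
  let g : G6 := ⟨⟨Q, hQdet⟩, hQ⟩
  refine ⟨g⁻¹, Subgroup.eq_of_le_of_card_ge ?_ ?_⟩
  · rintro _ ⟨a, ha, rfl⟩
    have hag : a * g = g * (Φ ⟨a, ha⟩).1 := mat_injective (by
      rw [mat_mul, mat_mul]
      show mat a * (P * Matrix.diagonal d) = P * Matrix.diagonal d * monM (fun i => χ i ⟨a, ha⟩) 1
      rw [monM_diag, ← Matrix.mul_assoc, hAP ⟨a, ha⟩, Matrix.mul_assoc, Matrix.mul_assoc,
        Matrix.diagonal_mul_diagonal, Matrix.diagonal_mul_diagonal]
      congr 2
      funext i
      exact mul_comm _ _)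
    show g⁻¹ * a * g⁻¹⁻¹ ∈ T
    rw [inv_inv, mul_assoc, hag, inv_mul_cancel_left]
    exact (Φ ⟨a, ha⟩).2
  · rw [Subgroup.card_map_of_injective (f := (MulAut.conj g⁻¹).toMonoidHom)
      (MulAut.conj g⁻¹).injective, hcard, card_T]

end Cfsg.Agent.Lib.U43InU62
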