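import Cfsg.Agent.Lib.U43InU62.Gens
import Cfsg.Agent.Lib.LatticeUnitary.U4

/-!
The subgroup generated is a triple cover of the four-dimensional projective special unitary group over
nine elements, its frame stabiliser is the monomial group, and its conjugates.
-/

set_option autoImplicit false
set_option maxRecDepth 20000
set_option Elab.async false

namespace Cfsg.Agent.Lib.U43InU62

open Cfsg Matrix
open Cfsg.Agent.Lib.U33 (K9 card_k9)
open Cfsg.Agent.Lib.Computation (getW permRep decodeP okPerm decodeP_apply)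
open Cfsg.Agent.Lib.LatticeUnitary.U4 (lp lq h4 line mem_line line_injective scalar_of_lines card_k9')

theorem mat4_mem (g : Fin 4) :
    (⟨mat4 g, det4_ok g⟩ : Matrix.SpecialLinearGroup (Fin 4) K9) ∈ Cfsg.SU 4 K9 3 := by
  show ∀ a b, hermForm 4 K9 3 (Matrix.mulVec (mat4 g) a) (Matrix.mulVec (mat4 g) b) =
    hermForm 4 K9 3 a b
  rw [AutPSU.preserving_iff_ct card_k9']
  ext i k
  have h := unitary4_ok g i k
  simp only [AutPSU.ct, Matrix.mul_apply, Matrix.transpose_apply, Matrix.map_apply,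
    Unitary.conj_apply, Fin.sum_univ_four, pow_succ, pow_zero, one_mul, Matrix.one_apply]
  exact h

/-- A generator in the small unitary group. -/
noncomputable def gU (g : Fin 4) : Cfsg.SU 4 K9 3 := ⟨⟨mat4 g, det4_ok g⟩, mat4_mem g⟩

theorem card_psu : Nat.card (Cfsg.PSU 4 K9 3) = 3265920 := by
  classical
  have h := Cfsg.Agent.S0280.result (F := K9) (q := 3) card_k9 4 (by omega)
  norm_num [Finset.prod_range_succ, Nat.even_iff] at h
  rw [Nat.card_eq_fintype_card]; omega

theorem mat_of_mem_Zs {x : G6} (h : x ∈ Zs) : ∃ c : K4, c ≠ 0 ∧ mat x = c • 1 := by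
  obtain ⟨c, σ, hσ, hc, hq, e⟩ := h
  obtain rfl : σ = 1 := Subgroup.mem_bot.1 hσ
  refine ⟨c 0, hc 0, ?_⟩
  rw [e, monM_diag]
  ext i j
  simp [Matrix.diagonal_apply, Matrix.one_apply, hq i]

theorem Zs_comm {x : G6} (h : x ∈ Zs) (y : G6) : y * x = x * y := by
  obtain ⟨c, -, e⟩ := mat_of_mem_Zs h
  apply mat_injective
  rw [mat_mul, mat_mul, e]
  simp

theorem Zs_maps {x : G6} (h : x ∈ Zs) (j : Fin 112) : MapsFrame x j j := by
  obtain ⟨c, -, e⟩ := mat_of_mem_Zs h
  exact fun i => ⟨i, c, by rw [e, Matrix.smul_mulVec, Matrix.one_mulVec]⟩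

theorem rho_eq_one_iff (x : K1) : rho x = 1 ↔ (x : G6) ∈ Zs := by
  constructor
  · intro h
    refine mem_Zs_of_fix fun j => ?_
    have := img_spec x j
    rwa [← rho_apply, h] at this
  · exact fun h => Equiv.ext fun j => img_eq (Zs_maps h j)

/-- The image of the action is the small unitary group. -/
theorem range_rho : Nonempty (rho.range ≃* Cfsg.PSU 4 K9 3) := by
  classical
  let M : Submonoid (K1 × Cfsg.SU 4 K9 3) :=
    { carrier := {p | ∀ j : Fin 112, ∀ z ∈ line j, Matrix.mulVec p.2.1.1 z ∈ line (rho p.1 j)}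
      one_mem' := fun j z hz => by simpa using hz
      mul_mem' := by
        rintro ⟨a, A⟩ ⟨b, B⟩ ha hb j z hz
        show Matrix.mulVec ((A * B : Cfsg.SU 4 K9 3).1.1) z ∈ line (rho (a * b) j)
        rw [Subgroup.coe_mul, Matrix.SpecialLinearGroup.coe_mul, ← Matrix.mulVec_mulVec, map_mul,
          Equiv.Perm.mul_apply]
        exact ha _ _ (hb j z hz) }
  let p : Fin 4 → K1 × Cfsg.SU 4 K9 3 := fun g => (⟨gS g, gS_mem g⟩, gU g)
  have hp : ∀ g, p g ∈ M := by
    intro g j z hz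
    show Matrix.mulVec (mat4 g) z ∈ line (rho ⟨gS g, gS_mem g⟩ j : Fin 112)
    rw [rho_gS]
    obtain ⟨a, b, rfl⟩ := mem_line.1 hz
    have himg : Matrix.mulVec (mat4 g) (lp j) ∈ line ⟨_, (frame_ok g j).1⟩ ∧
        Matrix.mulVec (mat4 g) (lq j) ∈ line ⟨_, (frame_ok g j).1⟩ := by
      constructor
      · exact mem_line.2 ⟨cf4 g j 0, cf4 g j 1, funext fun i => by
          rw [mulVec_eq4]; simpa using ((line_image_ok g j i).1).symm⟩
      · exact mem_line.2 ⟨cf4 g j 2, cf4 g j 3, funext fun i => by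
          rw [mulVec_eq4]; simpa using ((line_image_ok g j i).2).symm⟩
    rw [Matrix.mulVec_add, Matrix.mulVec_smul, Matrix.mulVec_smul]
    exact add_mem (Submodule.smul_mem _ _ himg.1) (Submodule.smul_mem _ _ himg.2)
  let P : Subgroup (K1 × Cfsg.SU 4 K9 3) := Subgroup.closure (Set.range p)
  haveI : Finite (Cfsg.SU 4 K9 3) :=
    Finite.of_injective (fun A => A.1.1) fun _ _ h => Subtype.ext (Subtype.ext h)
  have hP : ∀ a ∈ P, a ∈ M := by
    intro a ha
    have : a ∈ Submonoid.closure (Set.range p) := by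
      rw [← Subgroup.closure_toSubmonoid_of_finite]; exact ha
    refine Submonoid.closure_le.2 ?_ this
    rintro _ ⟨g, rfl⟩
    exact hp g
  let f : P →* K1 := (MonoidHom.fst _ _).comp P.subtype
  have hf : Function.Surjective f := by
    rw [← MonoidHom.range_eq_top, ← top_le_iff]
    intro x _
    have hK : K1 ≤ f.range.map K1.subtype := by
      refine (Subgroup.closure_le _).2 ?_
      rintro _ ⟨g, rfl⟩
      exact ⟨⟨gS g, gS_mem g⟩, ⟨⟨p g, Subgroup.subset_closure ⟨g, rfl⟩⟩, rfl⟩, rfl⟩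
    obtain ⟨y, hy, e⟩ := hK x.2
    exact (Subtype.ext e : y = x) ▸ hy
  let ρ : P →* Equiv.Perm (Fin 112) := rho.comp f
  let s : P →* Cfsg.PSU 4 K9 3 :=
    (QuotientGroup.mk' _).comp ((MonoidHom.snd _ _).comp P.subtype)
  have hρs : ρ.ker ≤ s.ker := by
    intro a ha
    have h1 : rho a.1.1 = 1 := ha
    obtain ⟨l, hl⟩ := scalar_of_lines a.1.2.1.1 fun j z hz => by
      have := hP a.1 a.2 j z hz
      rwa [h1] at this
    show QuotientGroup.mk' _ a.1.2 = 1
    rw [QuotientGroup.mk'_apply, QuotientGroup.eq_one_iff,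
      Unitary.mem_center_SU_iff card_k9' (by norm_num)]
    exact ⟨l, hl⟩
  have hsρ : s.ker ≤ ρ.ker := by
    intro a ha
    have ha' : a.1.2 ∈ Subgroup.center (Cfsg.SU 4 K9 3) := (QuotientGroup.eq_one_iff _).1 ha
    obtain ⟨l, hl⟩ := (Unitary.mem_center_SU_iff card_k9' (by norm_num) _).1 ha'
    refine Equiv.ext fun j => (line_injective fun z hz => ?_).symm
    have hl0 : l ≠ 0 := by
      intro h0
      have h := hl (Pi.single 0 1)
      rw [h0, zero_smul] at h
      have h' := congrArg (Matrix.mulVec (a.1.2⁻¹ : Cfsg.SU 4 K9 3).1.1) h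
      rw [Matrix.mulVec_mulVec, ← Matrix.SpecialLinearGroup.coe_mul, ← Subgroup.coe_mul,
        inv_mul_cancel, Subgroup.coe_one, Matrix.SpecialLinearGroup.coe_one, Matrix.one_mulVec,
        Matrix.mulVec_zero] at h'
      exact one_ne_zero (Pi.single_eq_same (M := fun _ : Fin 4 => K9) 0 (1 : K9) ▸ congrFun h' 0)
    have := hP a.1 a.2 j z hz
    rw [hl z] at this
    exact (Submodule.smul_mem_iff _ hl0).1 this
  have hr : ρ.range = rho.range := by
    rw [MonoidHom.range_comp, MonoidHom.range_eq_top.2 hf, ← MonoidHom.range_eq_map]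
  have hcard : 3265920 ≤ Nat.card ρ.range := by
    have hc := (permRep 112 7 (by decide)).card_closure u43_check
    have ho : (permRep 112 7 (by decide)).order u43_chain = 3265920 := by decide +kernel
    rw [ho] at hc
    rw [← hc]
    refine Subgroup.card_le_of_le ?_
    rw [Subgroup.closure_le]
    rintro _ ⟨c, hc', rfl⟩
    have hg : ∀ g : Fin 4, okPerm 112 7 (u43_gens.getD g 0) = true := by decide +kernel
    have hmem : ∃ g : Fin 4, u43_gens.getD g 0 = c := by
      have hl : u43_gens.length = 4 := rfl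
      obtain ⟨i, hi, rfl⟩ := List.mem_iff_getElem.1 hc'
      exact ⟨⟨i, hl ▸ hi⟩, List.getD_eq_getElem _ _ hi⟩
    obtain ⟨g, rfl⟩ := hmem
    refine ⟨⟨p g, Subgroup.subset_closure ⟨g, rfl⟩⟩, Equiv.ext fun j => ?_⟩
    show rho ⟨gS g, gS_mem g⟩ j = decodeP 112 7 (u43_gens.getD g 0) j
    rw [rho_gS]
    exact Fin.ext (decodeP_apply (hg g) j).symm
  have hker : ρ.ker = s.ker := le_antisymm hρs hsρ
  have hs : Function.Surjective s := by
    haveI : Finite (Cfsg.PSU 4 K9 3) := Nat.finite_of_card_ne_zero (by rw [card_psu]; omega)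
    rw [← MonoidHom.range_eq_top]
    refine Subgroup.eq_top_of_le_card _ ?_
    rw [card_psu, ← Subgroup.index_ker, ← hker, Subgroup.index_ker]
    exact hcard
  exact ⟨(MulEquiv.subgroupCongr hr.symm).trans ((QuotientGroup.quotientKerEquivRange ρ).symm.trans
    ((QuotientGroup.quotientMulEquivOfEq hker).trans
      (QuotientGroup.quotientKerEquivOfSurjective s hs)))⟩

/-- A scalar element. -/
theorem card_Zs : Nat.card Zs = 3 := by
  rw [Zs, card_monSub, Subgroup.card_bot, one_mul]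
  refine Nat.card_eq_of_equiv_fin (Equiv.ofBijective
    (fun c => (exists_ev (c.1 0) (c.2.1 0)).choose) ⟨?_, ?_⟩)
  · intro a b h
    have ha := (exists_ev (a.1 0) (a.2.1 0)).choose_spec
    have hb := (exists_ev (b.1 0) (b.2.1 0)).choose_spec
    simp only at h
    refine Subtype.ext (funext fun i => ?_)
    rw [a.2.2.2 i, b.2.2.2 i, ← ha, ← hb, h]
  · intro n
    refine ⟨⟨fun _ => ev n, fun _ => ev_ne n, ?_, fun _ => rfl⟩, ?_⟩
    · revert n; decide +kernel
    · have : ∀ a b : Fin 3, ev a = ev b → a = b := by decide +kernel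
      exact this _ _ (exists_ev (ev n) (ev_ne n)).choose_spec

theorem Zs_le_T : Zs ≤ T := fun _ ⟨c, σ, hσ, hc, _, e⟩ => ⟨c, σ, hσ, hc, trivial, e⟩

theorem centralizer_dd {x : G6} (h : ∀ p, dd p * x = x * dd p) : x ∈ T := by
  have hsep : ∀ i j : Fin 6, i ≠ j → ∃ a b c d e : Fin 3,
      ev (expv ![a, b, c, d, e] i) ≠ ev (expv ![a, b, c, d, e] j) := by decide +kernel
  have hoff : ∀ i j, i ≠ j → mat x i j = 0 := by
    intro i j hij
    obtain ⟨a, b, c, d, e, hne⟩ := hsep i j hij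
    have := congrArg (fun z => mat z i j) (h ![a, b, c, d, e])
    simp only [mat_mul, dd, mat_monS, monM_diag, Matrix.diagonal_mul, Matrix.mul_diagonal] at this
    by_contra h0
    exact hne (mul_right_cancel₀ h0 (this.trans (mul_comm _ _)))
  have e : mat x = monM (fun i => mat x i i) 1 := by
    rw [monM_diag]
    ext i j
    by_cases hij : i = j
    · subst hij; simp
    · rw [hoff i j hij, Matrix.diagonal_apply_ne _ hij]
  refine ⟨_, 1, one_mem _, fun i hi => ?_, trivial, e⟩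
  have h0 := prod_of_mat e
  rw [Finset.prod_eq_zero (f := fun i => mat x i i) (Finset.mem_univ i) hi] at h0
  exact zero_ne_one h0

theorem mem_Zs_of_centralizes_H {x : G6} (h : ∀ y ∈ H, y * x = x * y) : x ∈ Zs := by
  obtain ⟨c, σ, hσ, hc, -, e⟩ := centralizer_dd fun p => h _ (T_le_H (mem_T_iff.2 ⟨p, rfl⟩))
  refine ⟨c, σ, hσ, hc, ?_, e⟩
  obtain rfl : σ = 1 := Subgroup.mem_bot.1 hσ
  intro i
  by_cases hi : i = 0
  · rw [hi]
  obtain ⟨k, -, hk⟩ : ∃ k : Fin 5, True ∧ ((permA ^ k.1) 0 = i ∨ (lastPerm * permA ^ k.1) 0 = i) := by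
    revert hi i; decide +kernel
  have key : ∀ π : Equiv.Perm (Fin 6), π ∈ alternatingGroup (Fin 6) → c (π 0) = c 0 := by
    intro π hπ
    have he := congrArg mat (h (permS π) ⟨1, π, hπ, fun _ => one_ne_zero, trivial, rfl⟩)
    rw [mat_mul, mat_mul, e, mat_permS, monM_mul, monM_mul, one_mul, mul_one] at he
    have := congrFun (monM_injective (fun a => by simpa using hc _) he).1 (π 0)
    simpa using this.symm
  rcases hk with hk | hk <;> rw [← hk] <;> apply key <;>
    rw [Equiv.Perm.mem_alternatingGroup]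
  · clear hk; revert k; decide +kernel
  · clear hk; revert k; decide +kernel

theorem Zs_le_K1 : Zs ≤ K1 := fun _ h => H_le_K1 (T_le_H (Zs_le_T h))

theorem center_K1 : Subgroup.center K1 = Zs.subgroupOf K1 := by
  refine le_antisymm (fun x hx => ?_) fun x hx => ?_
  · exact mem_Zs_of_centralizes_H fun y hy =>
      congrArg Subtype.val (Subgroup.mem_center_iff.1 hx ⟨y, H_le_K1 hy⟩)
  · exact Subgroup.mem_center_iff.2 fun y => Subtype.ext (Zs_comm hx y)

theorem center_K1_eq_ker : Subgroup.center K1 = rho.ker := by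
  rw [center_K1]
  ext x
  rw [Subgroup.mem_subgroupOf, MonoidHom.mem_ker, rho_eq_one_iff]

/-- The central quotient. -/
theorem quot_K1 : Nonempty (↥K1 ⧸ Subgroup.center ↥K1 ≃* Cfsg.PSU 4 K9 3) := by
  obtain ⟨e⟩ := range_rho
  exact ⟨(QuotientGroup.quotientMulEquivOfEq center_K1_eq_ker).trans
    ((QuotientGroup.quotientKerEquivRange rho).trans e)⟩

theorem card_center_K1 : Nat.card (Subgroup.center K1) = 3 := by
  rw [center_K1, Nat.card_congr (Subgroup.subgroupOfEquivOfLe Zs_le_K1).toEquiv, card_Zs]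

theorem card_K1 : Nat.card K1 = 9797760 := by
  obtain ⟨e⟩ := quot_K1
  rw [Subgroup.card_eq_card_quotient_mul_card_subgroup (Subgroup.center K1),
    Nat.card_congr e.toEquiv, card_psu, card_center_K1]

theorem card_T : Nat.card T = 243 := by
  rw [Nat.card_congr (Equiv.ofBijective (fun p => (⟨dd p, mem_T_iff.2 ⟨p, rfl⟩⟩ : T))
    ⟨?_, ?_⟩).symm]
  · simp
  · intro p q h
    have h' := (monM_injective (fun i => ev_ne _)
      (congrArg (fun z : T => mat z.1) h : monM _ 1 = monM _ 1)).1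
    have hev : ∀ a b : Fin 3, ev a = ev b → a = b := by decide +kernel
    have hi : ∀ i, expv p i = expv q i := fun i => hev _ _ (congrFun h' i)
    have h0 : p 0 = q 0 := hi 0
    have h1 : p 1 - p 0 = q 1 - q 0 := hi 1
    have h2 : p 2 - p 1 = q 2 - q 1 := hi 2
    have h3 : p 3 - p 2 = q 3 - q 2 := hi 3
    have h4 : p 4 - p 3 = q 4 - q 3 := hi 4
    rw [h0] at h1
    have e1 := sub_left_inj.1 h1
    rw [e1] at h2
    have e2 := sub_left_inj.1 h2
    rw [e2] at h3
    have e3 := sub_left_inj.1 h3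
    rw [e3] at h4
    funext i
    fin_cases i
    exacts [h0, e1, e2, e3, sub_left_inj.1 h4]
  · rintro ⟨x, hx⟩
    obtain ⟨p, rfl⟩ := mem_T_iff.1 hx
    exact ⟨p, rfl⟩

theorem card_monSub_all (U : Subgroup (Equiv.Perm (Fin 6))) (h1 hQ) :
    Nat.card (monSub U (fun _ => True) h1 hQ) = Nat.card U * 243 := by
  have hT := card_T
  rw [T, card_monSub, Subgroup.card_bot, one_mul] at hT
  rw [card_monSub, hT]

theorem card_H : Nat.card H = 87480 := by
  rw [H, card_monSub_all]
  have h2 := two_mul_nat_card_alternatingGroup (α := Fin 6)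
  rw [Nat.card_perm, Nat.card_fin, show Nat.factorial 6 = 720 from rfl] at h2
  omega

/-- Monomial elements of the subgroup generated are even. -/
theorem K1_inf_Mon : K1 ⊓ Mon ≤ H := by
  let act : MulAction K1 (Fin 112) := MulAction.compHom (Fin 112) rho
  have htr : MulAction.orbit K1 (0 : Fin 112) = Set.univ :=
    Set.eq_univ_of_forall fun j => rho_transitive j
  have h := (MulAction.stabilizer K1 (0 : Fin 112)).card_mul_index
  rw [MulAction.index_stabilizer, htr, Set.ncard_univ, Nat.card_fin, card_K1] at h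
  have e : (MulAction.stabilizer K1 (0 : Fin 112)).map K1.subtype = K1 ⊓ Mon := by
    ext x
    simp only [Subgroup.mem_map, Subgroup.mem_inf, Subgroup.subtype_apply]
    constructor
    · rintro ⟨y, hy, rfl⟩
      refine ⟨y.2, mapsFrame_zero_iff.1 ?_⟩
      have h' := img_spec y 0
      rwa [show img y 0 = 0 from hy] at h'
    · rintro ⟨h1, h2⟩
      exact ⟨⟨x, h1⟩, img_eq (mapsFrame_zero_iff.2 h2), rfl⟩
  have hle : H ≤ K1 ⊓ Mon := le_inf H_le_K1 H_le_Mon
  refine (Subgroup.eq_of_le_of_card_ge hle ?_).ge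
  rw [card_H, ← e, Nat.card_congr (Subgroup.equivMapOfInjective _ _
    K1.subtype_injective).symm.toEquiv]
  omega

/-! ### The three conjugates -/

/-- The conjugates of the subgroup generated. -/
def Ke (e : Fin 3) : Subgroup G6 := K1.map (cd e).toMonoidHom

theorem cd_mon {U : Subgroup (Equiv.Perm (Fin 6))} {h1 hQ} (e : Fin 3) {x : G6}
    (hx : x ∈ monSub U (fun _ => True) h1 hQ) : cd e x ∈ monSub U (fun _ => True) h1 hQ := by
  obtain ⟨c, σ, hσ, hc, -, ex⟩ := hx
  refine ⟨fun i => dlt e i * c i * dlt (-e) (σ⁻¹ i), σ, hσ,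
    fun i => mul_ne_zero (mul_ne_zero (dlt_ne _ _) (hc i)) (dlt_ne _ _), trivial, ?_⟩
  rw [mat_cd, ex, monM_mul, monM_mul]
  simp

theorem cd_map_mon {U : Subgroup (Equiv.Perm (Fin 6))} {h1 hQ} (e : Fin 3) :
    (monSub U (fun _ => True) h1 hQ).map (cd e).toMonoidHom =
      monSub U (fun _ => True) h1 hQ := by
  refine Subgroup.eq_of_le_of_card_ge ?_ ?_
  · rintro _ ⟨x, hx, rfl⟩; exact cd_mon e hx
  · exact le_of_eq (Subgroup.card_map_of_injective (f := (cd e).toMonoidHom) (cd e).injective).symm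

theorem H_le_Ke (e : Fin 3) : H ≤ Ke e := by
  have h : H.map (cd e).toMonoidHom = H := cd_map_mon e
  rw [← h]
  exact Subgroup.map_mono H_le_K1

theorem Ke_inf_Mon (e : Fin 3) : Ke e ⊓ Mon ≤ H := by
  have h : H.map (cd e).toMonoidHom = H := cd_map_mon e
  have hM : Mon.map (cd e).toMonoidHom = Mon := cd_map_mon e
  rw [← h, ← hM, Ke, ← Subgroup.map_inf _ _ _ (cd e).injective]
  exact Subgroup.map_mono K1_inf_Mon

theorem card_Ke (e : Fin 3) : Nat.card (Ke e) = 9797760 :=
  (Subgroup.card_map_of_injective (f := (cd e).toMonoidHom) (cd e).injective).trans card_K1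

theorem cd_g1_mem (e : Fin 3) : cd e g1 ∈ Ke e := ⟨g1, gS_mem 3, rfl⟩

theorem mat_cd_g1 (e : Fin 3) : mat (cd e g1) = gE e := by
  rw [mat_cd, show mat g1 = gmat 3 from mat_gS 3, mul_eq6, mul_eq6]
  exact (eq_of_en (gE_ok e)).symm

theorem Ke_le_of {K : Subgroup G6} (e : Fin 3) (hH : H ≤ K) (hg : cd e g1 ∈ K) : Ke e ≤ K := by
  rw [Ke, K1, MonoidHom.map_closure, Subgroup.closure_le]
  rintro _ ⟨_, ⟨g, rfl⟩, rfl⟩
  have hin : ∀ g : Fin 4, g ≠ 3 → gS g ∈ H := by
    intro g hg
    fin_cases g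
    · exact ⟨dvec, 1, one_mem _, by decide +kernel, trivial, rfl⟩
    · exact ⟨1, permA, Equiv.Perm.mem_alternatingGroup.2 (by decide +kernel),
        fun _ => one_ne_zero, trivial, rfl⟩
    · exact ⟨1, permB, Equiv.Perm.mem_alternatingGroup.2 (by decide +kernel),
        fun _ => one_ne_zero, trivial, rfl⟩
    · exact absurd rfl hg
  by_cases h3 : g = 3
  · subst h3; exact hg
  · exact hH (cd_mon e (hin g h3))

theorem center_quot_Ke (e : Fin 3) : Nat.card (Subgroup.center (Ke e)) = 3 ∧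
    Nonempty (↥(Ke e) ⧸ Subgroup.center ↥(Ke e) ≃* Cfsg.PSU 4 K9 3) := by
  let E : K1 ≃* Ke e := (cd e).subgroupMap K1
  have hc : (Subgroup.center K1).map E.toMonoidHom = Subgroup.center (Ke e) := by
    ext x
    obtain ⟨y, rfl⟩ := E.surjective x
    simp only [Subgroup.mem_map, MulEquiv.coe_toMonoidHom, EmbeddingLike.apply_eq_iff_eq,
      exists_eq_right, Subgroup.mem_center_iff]
    constructor
    · intro h z
      obtain ⟨z, rfl⟩ := E.surjective z
      rw [← map_mul, ← map_mul, h]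
    · intro h z
      exact E.injective (by rw [map_mul, map_mul]; exact h _)
  constructor
  · rw [← hc, Subgroup.card_map_of_injective (f := E.toMonoidHom) E.injective, card_center_K1]
  · obtain ⟨q⟩ := quot_K1
    exact ⟨(QuotientGroup.congr _ _ E hc).symm.trans q⟩

/-! ### The words -/

theorem letter_mem {K : Subgroup G6} (hH : H ≤ K) {g f : G6} (hg : g ∈ K) (hf : f ∈ K)
    (x : ℕ × ℕ × List (Fin 6 × Fin 6) × ℕ) (hx : letterOK x = true) :
    ∃ y ∈ K, mat y = letterM (mat g) (mat f) x := by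
  obtain ⟨k, c, l, P⟩ := x
  match k with
  | 0 =>
    simp only [letterOK, goodCS, Bool.and_eq_true, decide_eq_true_eq, List.all_eq_true] at hx
    obtain ⟨⟨⟨h1, h2⟩, h3⟩, h4⟩ := hx
    refine ⟨monS (decC c) (permOf l) h1 h2, hH ⟨_, _, ?_, h1, trivial, rfl⟩, rfl⟩
    rw [SetLike.mem_coe, Equiv.Perm.mem_alternatingGroup, permOf,
      Equiv.Perm.sign_prod_list_swap (fun s hs => by
        obtain ⟨p, hp, rfl⟩ := List.mem_map.1 hs
        exact ⟨p.1, p.2, h3 p hp, rfl⟩), List.length_map]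
    rw [← Nat.div_add_mod l.length 2, h4, add_zero, pow_mul]
    simp
  | 1 => exact ⟨g, hg, rfl⟩
  | 2 => exact ⟨g⁻¹, inv_mem hg, mat_inv g⟩
  | 3 => exact ⟨f, hf, rfl⟩
  | n + 4 => exact ⟨f⁻¹, inv_mem hf, mat_inv f⟩

theorem chain_mem {K : Subgroup G6} (hH : H ≤ K) {g f : G6} (hg : g ∈ K) (hf : f ∈ K) :
    ∀ (l : List (ℕ × ℕ × List (Fin 6 × Fin 6) × ℕ)) (y : G6), y ∈ K →
      chainOK (mat g) (mat f) l (mat y) = true → ∃ z ∈ K, mat z = lastM l (mat y)
  | [], y, hy, _ => ⟨y, hy, rfl⟩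
  | x :: r, y, hy, h => by
    simp only [chainOK, Bool.and_eq_true, decide_eq_true_eq] at h
    obtain ⟨⟨h1, h2⟩, h3⟩ := h
    obtain ⟨w, hw, ew⟩ := letter_mem hH hg hf x h1
    have e : mat (y * w) = decM x.2.2.2 := by
      rw [mat_mul, ew, mul_eq6]; exact eq_of_en h2
    rw [← e] at h3
    obtain ⟨z, hz, ez⟩ := chain_mem hH hg hf r (y * w) (mul_mem hy hw) h3
    exact ⟨z, hz, by rw [ez, e]; rfl⟩

/-- What a word shows. -/
theorem word_result (k : Fin 36) {K : Subgroup G6} (hH : H ≤ K) {g f : G6} (hg : g ∈ K)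
    (hf : f ∈ K) (eg : mat g = gC k) (ef : k.1 < 30 ∨ mat f = fC k)
    (hfree : k.1 < 30 → ∀ x ∈ (wordAt k).1, x.1 < 3) :
    ((wordAt k).2.1 < 3 ∧ ∃ e : Fin 3, Ke e ≤ K) ∨ ∃ x ∈ K, x ∈ Mon ∧ x ∉ H := by
  have h := cases_ok k
  simp only [caseOK, Bool.and_eq_true] at h
  obtain ⟨h1, h2⟩ := h
  have hchain : chainOK (mat g) (mat f) (wordAt k).1 (monM 1 1) = true := by
    rw [eg]
    rcases ef with hk | ef
    · have key : ∀ (l : List (ℕ × ℕ × List (Fin 6 × Fin 6) × ℕ)), (∀ x ∈ l, x.1 < 3) →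
          ∀ P A B, chainOK (gC k) A l P = chainOK (gC k) B l P := by
        intro l
        induction l with
        | nil => intros; rfl
        | cons x r ih =>
          intro hl P A B
          simp only [chainOK]
          rw [ih (fun y hy => hl y (List.mem_cons_of_mem _ hy)) _ A B]
          have hx := hl x List.mem_cons_self
          obtain ⟨kx, c, s, Q⟩ := x
          match kx, hx with
          | 0, _ => rfl
          | 1, _ => rfl
          | 2, _ => rfl
      rw [key _ (hfree hk) _ (mat f) (fC k)]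
      exact h1
    · rw [ef]; exact h1
  rw [monM_one, ← mat_one] at hchain h2
  obtain ⟨z, hz, ez⟩ := chain_mem hH hg hf _ 1 (one_mem _) hchain
  split_ifs at h2 with hlt
  · rw [decide_eq_true_eq] at h2
    refine Or.inl ⟨hlt, ⟨_, hlt⟩, Ke_le_of _ hH ?_⟩
    have e : cd ⟨_, hlt⟩ g1 = z := mat_injective (by
      rw [mat_cd_g1, ez]; exact (eq_of_en h2).symm)
    rw [e]; exact hz
  · simp only [Bool.and_eq_true, decide_eq_true_eq, goodCS, List.all_eq_true] at h2
    obtain ⟨⟨he, ⟨hc, -⟩, hl⟩, hodd⟩ := h2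
    have e : mat z = monM (decC (wordAt k).2.2.1) (permOf (wordAt k).2.2.2) :=
      ez.trans (eq_of_en he)
    refine Or.inr ⟨z, hz, ⟨_, _, trivial, hc, trivial, e⟩, ?_⟩
    rintro ⟨c, σ, hσ, -, -, e'⟩
    obtain ⟨-, hs⟩ := monM_injective hc (e.symm.trans e')
    rw [← hs, SetLike.mem_coe, Equiv.Perm.mem_alternatingGroup, permOf,
      Equiv.Perm.sign_prod_list_swap (fun s hs => by
        obtain ⟨p, hp, rfl⟩ := List.mem_map.1 hs
        exact ⟨p.1, p.2, hl p hp, rfl⟩), List.length_map,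
      ← Nat.div_add_mod (wordAt k).2.2.2.length 2, hodd, pow_add, pow_mul] at hσ
    simp at hσ

theorem words_free : ∀ k : Fin 30, (wordAt k).1.all (fun x => decide (x.1 < 3)) = true := by
  decide +kernel

end Cfsg.Agent.Lib.U43InU62
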