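import Cfsg.Agent.Lib.U43InU62.Pin
import Cfsg.Agent.Lib.U43InU62.Linear
import Cfsg.Agent.Lib.U43InU62.Gu3

/-! The normaliser of the subgroup of index three: monomial multiples of sixteen block elements. -/

set_option autoImplicit false
set_option maxRecDepth 20000
set_option Elab.async false

namespace Cfsg.Agent.Lib.U43InU62

open Cfsg Matrix

/-- The swap of the two blocks. -/
def swPerm : Equiv.Perm (Fin 6) := permOf [(0, 3), (1, 4), (2, 5)]

/-- The conjugate transpose in three dimensions. -/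
def st3 (A : Matrix (Fin 3) (Fin 3) K4) : Matrix (Fin 3) (Fin 3) K4 :=
  Matrix.of fun i j => A j i * A j i

theorem st3_mul {A : Matrix (Fin 3) (Fin 3) K4} (h : Unit3 A) : st3 A * A = 1 := by
  have e : st3 A = Matrix.of fun i j => A j i ^ 2 := by ext i j; simp [st3, pow_two]
  rw [e]; exact h

theorem blkM_inj {A B A' B' : Matrix (Fin 3) (Fin 3) K4} (h : blkM A B = blkM A' B') :
    A = A' ∧ B = B' := by
  have h' := (Matrix.reindex finSumFinEquiv finSumFinEquiv).injective h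
  obtain ⟨a, -, -, d⟩ := Matrix.fromBlocks_inj.1 h'
  exact ⟨a, d⟩

theorem stM_blkM (A B : Matrix (Fin 3) (Fin 3) K4) : stM (blkM A B) = blkM (st3 A) (st3 B) := by
  ext i j
  obtain ⟨a, rfl⟩ := (finSumFinEquiv : Fin 3 ⊕ Fin 3 ≃ Fin 6).surjective i
  obtain ⟨b, rfl⟩ := (finSumFinEquiv : Fin 3 ⊕ Fin 3 ≃ Fin 6).surjective j
  rcases a with a | a <;> rcases b with b | b <;> simp [stM, st3, blkM]

theorem blocks_unit {x : G6} {A B : Matrix (Fin 3) (Fin 3) K4} (e : mat x = blkM A B) :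
    st3 A * A = 1 ∧ st3 B * B = 1 := by
  have h := mat_inv_mul x
  rw [mat_inv, e, stM_blkM, blkM_mul, ← blkM_one] at h
  exact blkM_inj h

theorem monBy_cols {A : Matrix (Fin 3) (Fin 3) K4} (h : st3 A * A = 1) :
    ∃ k : Fin 4, ∀ j i i', (A * st3 (qM k)) i j ≠ 0 → (A * st3 (qM k)) i' j ≠ 0 → i = i' := by
  have hc : ∀ p q : Fin 3, h3 (A 0 q) (A 1 q) (A 2 q) (A 0 p) (A 1 p) (A 2 p) =
      if p = q then 1 else 0 := by
    intro p q
    have e := congrFun (congrFun h p) q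
    rw [Matrix.mul_apply, Fin.sum_univ_three, Matrix.one_apply] at e
    rw [← e]
    simp only [h3, st3, Matrix.of_apply]
    ring
  obtain ⟨k, hk⟩ := gu3_monBy (A 0 0) (A 1 0) (A 2 0) (hc 0 0) (A 0 1) (A 1 1) (A 2 1) (hc 1 1)
    (hc 1 0) (A 0 2) (A 1 2) (A 2 2) (hc 2 2) (hc 2 0) (hc 2 1)
  refine ⟨k, fun j i i' hi hi' => ?_⟩
  have he : ∀ r, (A * st3 (qM k)) r j = qProd k (A r 0) (A r 1) (A r 2) j := fun r => by
    simp [Matrix.mul_apply, Fin.sum_univ_three, qProd, st3]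
  rw [he] at hi hi'
  rcases hk j with ⟨a, b⟩ | ⟨a, b⟩ | ⟨a, b⟩ <;> fin_cases i <;> fin_cases i' <;>
    first | rfl | exact absurd a hi | exact absurd b hi | exact absurd a hi' | exact absurd b hi'

theorem blk_factor {x : G6} {A B : Matrix (Fin 3) (Fin 3) K4} (e : mat x = blkM A B) :
    ∃ m ∈ Mon, ∃ i j : Fin 4, x = m * qS i j := by
  obtain ⟨hA, hB⟩ := blocks_unit e
  obtain ⟨i, hi⟩ := monBy_cols hA
  obtain ⟨j, hj⟩ := monBy_cols hB
  refine ⟨x * (qS i j)⁻¹, mem_Mon_of_cols ?_, i, j, by rw [inv_mul_cancel_right]⟩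
  have em : mat (x * (qS i j)⁻¹) = blkM (A * st3 (qM i)) (B * st3 (qM j)) := by
    rw [mat_mul, mat_inv, e, qS, mat_blkS, stM_blkM, blkM_mul]
  rw [em]
  intro k r r' hr hr'
  obtain ⟨k, rfl⟩ := (finSumFinEquiv : Fin 3 ⊕ Fin 3 ≃ Fin 6).surjective k
  obtain ⟨r, rfl⟩ := (finSumFinEquiv : Fin 3 ⊕ Fin 3 ≃ Fin 6).surjective r
  obtain ⟨r', rfl⟩ := (finSumFinEquiv : Fin 3 ⊕ Fin 3 ≃ Fin 6).surjective r'
  congr 1
  simp only [blkM, Matrix.reindex_apply, Matrix.submatrix_apply, Equiv.symm_apply_apply] at hr hr'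
  rcases k with k | k <;> rcases r with r | r <;> rcases r' with r' | r' <;>
    simp only [Matrix.fromBlocks_apply₁₁, Matrix.fromBlocks_apply₁₂, Matrix.fromBlocks_apply₂₁,
      Matrix.fromBlocks_apply₂₂, Matrix.zero_apply, ne_eq, not_true_eq_false] at hr hr'
  · rw [hi k r r' hr hr']
  · rw [hj k r r' hr hr']

theorem Mon_factor {m : G6} (hm : m ∈ Mon) : ∃ h ∈ H, ∃ s : Fin 2, m = h * tau ^ s.1 := by
  obtain ⟨c, σ, -, hc, -, e⟩ := hm
  rcases Int.units_eq_one_or (Equiv.Perm.sign σ) with hs | hs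
  · exact ⟨m, ⟨c, σ, Equiv.Perm.mem_alternatingGroup.2 hs, hc, trivial, e⟩, 0, by simp⟩
  · refine ⟨m * tau, ⟨c, σ * permTau, ?_, hc, trivial, ?_⟩, 1, ?_⟩
    · rw [SetLike.mem_coe, Equiv.Perm.mem_alternatingGroup, map_mul, hs, permTau,
        Equiv.Perm.sign_swap (by decide)]
      rfl
    · rw [mat_mul, e, tau, mat_permS, monM_mul]
      simp
    · have ht : tau * tau = 1 := by
        rw [tau, ← map_mul, permTau, Equiv.swap_mul_self, map_one]
      simp [mul_assoc, ht]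

theorem z_fix : ∀ a b : Fin 3, ∀ i,
    expv ![1, 2, 0, 0, 0] ((u1 ^ a.1 * u2 ^ b.1)⁻¹ i) = expv ![1, 2, 0, 0, 0] i := by decide +kernel

theorem perm_sep : ∀ a b : Fin 3, (a = 0 ∧ b = 0) ∨ ∃ c d e f : Fin 3, ∃ i : Fin 6,
    expv ![c, d, 0, e, f] ((u1 ^ a.1 * u2 ^ b.1)⁻¹ i) ≠ expv ![c, d, 0, e, f] i := by decide +kernel

theorem sw_conj : ∀ i j : Fin 4, ∀ r k : Fin 6,
    en (mm6 (blkM (qM i) (qM j)) (monM 1 swPerm)) r k =
      en (mm6 (monM 1 swPerm) (blkM (qM j) (qM i))) r k := by decide +kernel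

theorem sw_two : swPerm * swPerm = 1 := by decide +kernel

theorem z_vals : ∀ k : Fin 6, ev (expv ![1, 2, 0, 0, 0] k) = if k.1 < 3 then ev 1 else ev 0 := by
  decide +kernel

/-- An element normalising the subgroup of index three. -/
theorem normalizer_R {x : G6} (h : ∀ r ∈ R, x * r * x⁻¹ ∈ R) :
    ∃ y ∈ H, ∃ s : Fin 2, ∃ i j : Fin 4, x = y * (tau ^ s.1 * qS i j) := by
  suffices hfac : ∃ m ∈ Mon, ∃ i j : Fin 4, x = m * qS i j by
    obtain ⟨m, hm, i, j, rfl⟩ := hfac
    obtain ⟨y, hy, s, rfl⟩ := Mon_factor hm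
    exact ⟨y, hy, s, i, j, by rw [mul_assoc]⟩
  have hRmap : R.map (MulAut.conj x).toMonoidHom = R := by
    refine Subgroup.eq_of_le_of_card_ge ?_ ?_
    · rintro _ ⟨t, ht, rfl⟩
      simpa using h t ht
    · exact le_of_eq (Subgroup.card_map_of_injective (f := (MulAut.conj x).toMonoidHom)
        (MulAut.conj x).injective).symm
  set z : G6 := dd ![1, 2, 0, 0, 0] with hz
  have hddR : ∀ p : Fin 5 → Fin 3, p 2 = 0 → dd p ∈ R := fun p hp =>
    ⟨_, 1, one_mem _, fun _ => ev_ne _, (blockOne_iff p).2 hp, rfl⟩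
  have hpermR : ∀ {σ}, σ ∈ U9 → permS σ ∈ R := fun {σ} hσ =>
    ⟨1, σ, hσ, fun _ => one_ne_zero, by simp [BlockOne], rfl⟩
  have hzR : z ∈ R := hddR _ rfl
  have hzc : ∀ r ∈ R, z * r = r * z := by
    rintro r ⟨c, σ, hσ, hc, -, e⟩
    obtain ⟨p, rfl⟩ := exists_dd hc (prod_of_mat e)
    have e' : mat r = monM (evv (expv p)) σ := e
    apply mat_injective
    rw [mat_mul_evv (mat_dd _) e', mat_mul_evv e' (mat_dd _), one_mul, mul_one]
    congr 2
    funext i
    obtain ⟨a, b, rfl⟩ := hσ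
    rw [z_fix a b i]
    simp only [inv_one, Equiv.Perm.one_apply]
    exact add_comm _ _
  set w : G6 := x * z * x⁻¹ with hw
  have hwR : w ∈ R := h z hzR
  have hwc : ∀ r ∈ R, w * r = r * w := by
    intro r hr
    rw [← hRmap] at hr
    obtain ⟨t, ht, rfl⟩ := hr
    simp only [hw, MulEquiv.coe_toMonoidHom, MulAut.conj_apply]
    rw [show x * z * x⁻¹ * (x * t * x⁻¹) = x * (z * t) * x⁻¹ by group, hzc t ht]
    group
  obtain ⟨c, σ, hσ, hc, -, ew⟩ := hwR
  obtain ⟨p, rfl⟩ := exists_dd hc (prod_of_mat ew)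
  have ew' : mat w = monM (evv (expv p)) σ := ew
  have hfix : ∀ {r : G6} {n : Fin 6 → Fin 3} {ρ : Equiv.Perm (Fin 6)}, r ∈ R →
      mat r = monM (evv n) ρ →
      ∀ i, expv p i + n (σ⁻¹ i) = n i + expv p (ρ⁻¹ i) := by
    intro r n ρ hr er i
    have e := congrArg mat (hwc r hr)
    rw [mat_mul_evv ew' er, mat_mul_evv er ew'] at e
    exact congrFun (evv_inj (monM_injective (evv_ne _) e).1) i
  have hσ1 : σ = 1 := by
    obtain ⟨a, b, rfl⟩ := hσ
    rcases perm_sep a b with ⟨rfl, rfl⟩ | ⟨c, d, e, f, i, hne⟩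
    · simp
    · exfalso
      apply hne
      have := hfix (hddR ![c, d, 0, e, f] rfl) (mat_dd _) i
      simp only [inv_one, Equiv.Perm.one_apply] at this
      rw [add_comm (expv ![c, d, 0, e, f] i)] at this
      exact add_left_cancel this
  subst hσ1
  have hu : ∀ ρ ∈ U9, ∀ i, expv p (ρ⁻¹ i) = expv p i := by
    intro ρ hρ i
    have := hfix (hpermR hρ) (mat_permS' ρ) i
    simpa using this.symm
  set α : K4 := ev (expv p 0) with hα
  set β : K4 := ev (expv p 3) with hβ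
  have hval : ∀ i : Fin 6, ev (expv p i) = if i.1 < 3 then α else β := by
    have h1 := hu u1 u1_mem
    have h2 := hu u2 u2_mem
    have e1 : expv p 1 = expv p 0 := by
      have := h1 1; rwa [show u1⁻¹ 1 = 0 from by decide +kernel, eq_comm] at this
    have e2 : expv p 2 = expv p 1 := by
      have := h1 2; rwa [show u1⁻¹ 2 = 1 from by decide +kernel, eq_comm] at this
    have e4 : expv p 4 = expv p 3 := by
      have := h2 4; rwa [show u2⁻¹ 4 = 3 from by decide +kernel, eq_comm] at this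
    have e5 : expv p 5 = expv p 4 := by
      have := h2 5; rwa [show u2⁻¹ 5 = 4 from by decide +kernel, eq_comm] at this
    intro i
    fin_cases i <;> simp [hα, hβ, e1, e2, e4, e5]
  have hxz : ∀ i k : Fin 6, mat x i k ≠ 0 →
      (if k.1 < 3 then ev 1 else ev 0) = if i.1 < 3 then α else β := by
    intro i k hne
    have e : x * z = w * x := by simp [hw]
    have := congrArg (fun g => mat g i k) e
    simp only [mat_mul, hz, mat_dd, ew', monM_diag, Matrix.mul_diagonal, Matrix.diagonal_mul] at this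
    rw [← hval i, ← z_vals k]
    exact mul_right_cancel₀ hne ((mul_comm _ _).trans this)
  have hrow : ∀ i, ∃ k, mat x i k ≠ 0 := fun i => by
    by_contra hall
    push Not at hall
    have h0 := det_mat x
    rw [Matrix.det_eq_zero_of_row_eq_zero i hall] at h0
    exact zero_ne_one h0
  have hcol : ∀ k, ∃ i, mat x i k ≠ 0 := fun k => by
    by_contra hall
    push Not at hall
    have h0 := det_mat x
    rw [Matrix.det_eq_zero_of_column_eq_zero k hall] at h0
    exact zero_ne_one h0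
  have hne10 : ev 1 ≠ ev 0 := by decide +kernel
  have hαβ : α ≠ β := by
    intro heq
    obtain ⟨i, hi⟩ := hcol 0
    obtain ⟨i', hi'⟩ := hcol 3
    have a := hxz i 0 hi
    have b := hxz i' 3 hi'
    rw [heq, ite_self] at a b
    exact hne10 (a.trans b.symm)
  have hα01 : α = ev 1 ∨ α = ev 0 := by
    obtain ⟨k, hk⟩ := hrow 0
    have := hxz 0 k hk
    by_cases hk3 : k.1 < 3
    · rw [if_pos hk3, if_pos (by decide)] at this; exact Or.inl this.symm
    · rw [if_neg hk3, if_pos (by decide)] at this; exact Or.inr this.symm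
  have hβ01 : β = ev 1 ∨ β = ev 0 := by
    obtain ⟨k, hk⟩ := hrow 3
    have := hxz 3 k hk
    by_cases hk3 : k.1 < 3
    · rw [if_pos hk3, if_neg (by decide)] at this; exact Or.inl this.symm
    · rw [if_neg hk3, if_neg (by decide)] at this; exact Or.inr this.symm
  have hsplit : ∀ M : Matrix (Fin 6) (Fin 6) K4,
      (∀ i k : Fin 6, ¬(i.1 < 3 ↔ k.1 < 3) → M i k = 0) →
      ∃ A B, M = blkM A B := by
    intro M hM
    refine ⟨Matrix.of fun i j => M ((finSumFinEquiv : Fin 3 ⊕ Fin 3 ≃ Fin 6) (Sum.inl i)) ((finSumFinEquiv : Fin 3 ⊕ Fin 3 ≃ Fin 6) (Sum.inl j)),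
      Matrix.of fun i j => M ((finSumFinEquiv : Fin 3 ⊕ Fin 3 ≃ Fin 6) (Sum.inr i)) ((finSumFinEquiv : Fin 3 ⊕ Fin 3 ≃ Fin 6) (Sum.inr j)), ?_⟩
    have hfe : ∀ s : Fin 3 ⊕ Fin 3,
        ((finSumFinEquiv : Fin 3 ⊕ Fin 3 ≃ Fin 6) s).1 < 3 ↔ s.isLeft = true := by decide +kernel
    ext i k
    obtain ⟨i, rfl⟩ := (finSumFinEquiv : Fin 3 ⊕ Fin 3 ≃ Fin 6).surjective i
    obtain ⟨k, rfl⟩ := (finSumFinEquiv : Fin 3 ⊕ Fin 3 ≃ Fin 6).surjective k
    rcases i with i | i <;> rcases k with k | k <;> simp [blkM] <;>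
      exact hM _ _ (fun h => by rw [hfe, hfe] at h; simp at h)
  rcases hα01 with ha | ha
  · have hb : β = ev 0 := hβ01.resolve_left fun hb => hαβ (ha.trans hb.symm)
    obtain ⟨A, B, e⟩ := hsplit (mat x) fun i k hik => by
      by_contra hne
      have := hxz i k hne
      rw [ha, hb] at this
      by_cases h1 : i.1 < 3 <;> by_cases h2 : k.1 < 3
      · exact hik ⟨fun _ => h2, fun _ => h1⟩
      · rw [if_neg h2, if_pos h1] at this; exact hne10 this.symm
      · rw [if_pos h2, if_neg h1] at this; exact hne10 this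
      · exact hik ⟨fun h => absurd h h1, fun h => absurd h h2⟩
    exact blk_factor e
  · have hb : β = ev 1 := hβ01.resolve_right fun hb => hαβ (ha.trans hb.symm)
    let SW : G6 := permS swPerm
    have hSW : SW * SW = 1 := by
      show permS swPerm * permS swPerm = 1
      rw [← map_mul, sw_two, map_one]
    have hswap : ∀ k : Fin 6, (swPerm k).1 < 3 ↔ ¬ k.1 < 3 := by decide +kernel
    obtain ⟨A, B, e⟩ := hsplit (mat (x * SW)) fun i k hik => by
      show mat (x * permS swPerm) i k = 0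
      rw [mat_mul, mat_permS, Matrix.mul_apply, Finset.sum_eq_single (swPerm k)]
      · rw [monM_apply, if_pos rfl, Pi.one_apply, mul_one]
        by_contra hne
        have := hxz i (swPerm k) hne
        rw [ha, hb] at this
        by_cases h1 : i.1 < 3 <;> by_cases h2 : k.1 < 3
        · exact hik ⟨fun _ => h2, fun _ => h1⟩
        · rw [if_pos ((hswap k).2 h2), if_pos h1] at this; exact hne10 this
        · rw [if_neg (fun h => (hswap k).1 h h2), if_neg h1] at this; exact hne10 this.symm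
        · exact hik ⟨fun h => absurd h h1, fun h => absurd h h2⟩
      · intro b _ hb'
        rw [monM_apply, if_neg (Ne.symm hb'), mul_zero]
      · simp
    obtain ⟨m, hm, i, j, hm'⟩ := blk_factor e
    refine ⟨m * SW, mul_mem hm ⟨1, swPerm, trivial, fun _ => one_ne_zero, trivial, rfl⟩, j, i, ?_⟩
    have hc2 : qS i j * SW = SW * qS j i := mat_injective (by
      show mat (qS i j * permS swPerm) = mat (permS swPerm * qS j i)
      rw [mat_mul, mat_mul, mul_eq6, mul_eq6]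
      exact eq_of_en (sw_conj i j))
    rw [mul_assoc, ← hc2, ← mul_assoc, ← hm', mul_assoc, hSW, mul_one]

end Cfsg.Agent.Lib.U43InU62
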