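import Cfsg.Agent.Lib.U43InU62.Model

/-!
Inside the Sylow subgroup the diagonal group is the only abelian subgroup of order `3 ^ 5`, and one
subgroup of index three is singled out by its commutators.
-/

set_option autoImplicit false
set_option maxRecDepth 20000
set_option Elab.async false

namespace Cfsg.Agent.Lib.U43InU62

open Cfsg Matrix

/-- The coefficients with given exponents. -/
def evv (n : Fin 6 → Fin 3) : Fin 6 → K4 := fun i => ev (n i)

theorem evv_ne (n : Fin 6 → Fin 3) : ∀ i, evv n i ≠ 0 := fun _ => ev_ne _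

theorem evv_inj {n m : Fin 6 → Fin 3} (h : evv n = evv m) : n = m := by
  have hev : ∀ a b : Fin 3, ev a = ev b → a = b := by decide +kernel
  exact funext fun i => hev _ _ (congrFun h i)

theorem evv_mul (n m : Fin 6 → Fin 3) (σ : Equiv.Perm (Fin 6)) :
    (fun i => evv n i * evv m (σ⁻¹ i)) = evv fun i => n i + m (σ⁻¹ i) :=
  funext fun _ => (ev_add _ _).symm

theorem mat_mul_evv {x y : G6} {n m : Fin 6 → Fin 3} {σ ρ : Equiv.Perm (Fin 6)}
    (hx : mat x = monM (evv n) σ) (hy : mat y = monM (evv m) ρ) :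
    mat (x * y) = monM (evv fun i => n i + m (σ⁻¹ i)) (σ * ρ) := by
  rw [mat_mul, hx, hy, monM_mul, evv_mul]

theorem mat_dd (p : Fin 5 → Fin 3) : mat (dd p) = monM (evv (expv p)) 1 := rfl

theorem evv_zero : evv 0 = 1 := funext fun _ => show k4 1 = 1 from rfl

theorem mat_permS' (σ : Equiv.Perm (Fin 6)) : mat (permS σ) = monM (evv 0) σ := by
  rw [mat_permS, evv_zero]

theorem comm_mat {x y : G6} {n m : Fin 6 → Fin 3} {σ ρ : Equiv.Perm (Fin 6)}
    (hx : mat x = monM (evv n) σ) (hy : mat y = monM (evv m) ρ) (hc : σ * ρ = ρ * σ) :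
    mat (x * y * (y * x)⁻¹) =
      monM (evv fun i => n i + m (σ⁻¹ i) - m i - n (ρ⁻¹ i)) 1 := by
  have e : monM (evv fun i => n i + m (σ⁻¹ i) - m i - n (ρ⁻¹ i)) 1 * mat (y * x) =
      mat (x * y) := by
    rw [mat_mul_evv hy hx, mat_mul_evv hx hy, monM_mul, evv_mul, one_mul, hc]
    congr 2
    funext i
    simp only [inv_one, Equiv.Perm.one_apply]
    abel
  rw [mat_mul (x * y), ← e, Matrix.mul_assoc, mat_mul_inv, Matrix.mul_one]

theorem u9_comm : ∀ a b c d : Fin 3,
    (u1 ^ a.1 * u2 ^ b.1) * (u1 ^ c.1 * u2 ^ d.1) =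
      (u1 ^ c.1 * u2 ^ d.1) * (u1 ^ a.1 * u2 ^ b.1) := by decide +kernel

theorem u1_mem : u1 ∈ U9 := ⟨1, 0, by decide +kernel⟩

theorem u2_mem : u2 ∈ U9 := ⟨0, 1, by decide +kernel⟩

theorem U9_comm {σ ρ : Equiv.Perm (Fin 6)} (hσ : σ ∈ U9) (hρ : ρ ∈ U9) : σ * ρ = ρ * σ := by
  obtain ⟨a, b, rfl⟩ := hσ
  obtain ⟨c, d, rfl⟩ := hρ
  exact u9_comm a b c d

theorem card_U9 : Nat.card U9 = 9 := by
  have hinj : ∀ a b c d : Fin 3, u1 ^ a.1 * u2 ^ b.1 = u1 ^ c.1 * u2 ^ d.1 → a = c ∧ b = d := by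
    decide +kernel
  rw [Nat.card_congr (Equiv.ofBijective (fun p : Fin 3 × Fin 3 =>
    (⟨u1 ^ p.1.1 * u2 ^ p.2.1, p.1, p.2, rfl⟩ : U9)) ⟨?_, ?_⟩).symm]
  · simp
  · intro p q h
    obtain ⟨h1, h2⟩ := hinj _ _ _ _ (congrArg Subtype.val h)
    exact Prod.ext h1 h2
  · rintro ⟨_, a, b, rfl⟩
    exact ⟨(a, b), rfl⟩

theorem card_S : Nat.card S = 2187 := by
  rw [S, card_monSub_all, card_U9]

theorem block_iff : ∀ a b c : Fin 3, ev a * ev (b - a) * ev (c - b) = 1 ↔ c = 0 := by
  decide +kernel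

theorem blockOne_iff (p : Fin 5 → Fin 3) : BlockOne (evv (expv p)) ↔ p 2 = 0 :=
  block_iff (p 0) (p 1) (p 2)

theorem card_R : Nat.card R = 729 := by
  refine (card_monSub U9 BlockOne _ _).trans ?_
  rw [card_U9]
  have e : Nat.card {c : Fin 6 → K4 // (∀ i, c i ≠ 0) ∧ ∏ i, c i = 1 ∧ BlockOne c} = 81 := by
    rw [Nat.card_congr (Equiv.ofBijective (fun p : {p : Fin 5 → Fin 3 // p 2 = 0} =>
      (⟨evv (expv p.1), evv_ne _, expv_prod p.1, (blockOne_iff p.1).2 p.2⟩ :
        {c : Fin 6 → K4 // (∀ i, c i ≠ 0) ∧ ∏ i, c i = 1 ∧ BlockOne c})) ⟨?_, ?_⟩).symm]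
    · rw [Nat.card_eq_fintype_card]; decide +kernel
    · intro p q h
      have h' := evv_inj (congrArg Subtype.val h)
      have hinj : ∀ a b c d e a' b' c' d' e' : Fin 3, a = a' → b - a = b' - a' → c - b = c' - b' →
          d - c = d' - c' → e - d = e' - d' → a = a' ∧ b = b' ∧ c = c' ∧ d = d' ∧ e = e' := by
        intro a b c d e a' b' c' d' e' h0 h1 h2 h3 h4
        subst h0
        have e1 := sub_left_inj.1 h1
        subst e1
        have e2 := sub_left_inj.1 h2
        subst e2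
        have e3 := sub_left_inj.1 h3
        subst e3
        exact ⟨rfl, rfl, rfl, rfl, sub_left_inj.1 h4⟩
      obtain ⟨a, b, c, d, e⟩ := hinj _ _ _ _ _ _ _ _ _ _ (congrFun h' 0) (congrFun h' 1)
        (congrFun h' 2) (congrFun h' 3) (congrFun h' 4)
      refine Subtype.ext (funext fun i => ?_)
      fin_cases i
      exacts [a, b, c, d, e]
    · rintro ⟨c, hc, hp, hb⟩
      obtain ⟨p, rfl⟩ := exists_dd hc hp
      exact ⟨⟨p, (blockOne_iff p).1 hb⟩, rfl⟩
  rw [e]

/-! ### The abelian subgroup of order `3 ^ 5` -/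

/-- The permutation of a monomial element. -/
noncomputable def monPerm : Mon →* Equiv.Perm (Fin 6) :=
  MonoidHom.mk' (fun x => x.2.choose_spec.choose) fun x y => by
    obtain ⟨-, hx, -, ex⟩ := x.2.choose_spec.choose_spec
    obtain ⟨-, hy, -, ey⟩ := y.2.choose_spec.choose_spec
    obtain ⟨-, hxy, -, exy⟩ := (x * y).2.choose_spec.choose_spec
    have h : mat ((x * y : Mon) : G6) = _ := (mat_mul x.1 y.1).trans (by rw [ex, ey, monM_mul])
    exact (monM_injective hxy (exy.symm.trans h)).2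

theorem monPerm_eq (x : Mon) {c : Fin 6 → K4} {σ : Equiv.Perm (Fin 6)}
    (e : mat x.1 = monM c σ) : monPerm x = σ := by
  obtain ⟨-, hx, -, ex⟩ := x.2.choose_spec.choose_spec
  exact (monM_injective hx (ex.symm.trans e)).2

theorem S_le_Mon : S ≤ Mon := S_le_H.trans H_le_Mon

/-- The number of exponent vectors fixed by a permutation. -/
def fixCount (σ ρ : Equiv.Perm (Fin 6)) : ℕ :=
  (Finset.univ.filter fun p : Fin 5 → Fin 3 =>
    ∀ i, expv p (σ⁻¹ i) = expv p i ∧ expv p (ρ⁻¹ i) = expv p i).card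

theorem fixCount_le : ∀ a b : Fin 3, a = 0 ∧ b = 0 ∨
    fixCount (u1 ^ a.1 * u2 ^ b.1) (u1 ^ a.1 * u2 ^ b.1) ≤ 27 := by decide +kernel

theorem fixCount_u : fixCount u1 u2 ≤ 9 := by decide +kernel

theorem abelian_eq_T {B : Subgroup G6} (hB : B ≤ S) (hcard : Nat.card B = 243)
    (hc : ∀ a ∈ B, ∀ b ∈ B, a * b = b * a) : B = T := by
  let π : B →* Equiv.Perm (Fin 6) :=
    monPerm.comp (Subgroup.inclusion (hB.trans S_le_Mon))
  by_contra hne
  have hker : Nat.card π.ker * Nat.card π.range = 243 := by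
    rw [← hcard, ← π.ker.card_mul_index, Subgroup.index_ker]
  have hmat : ∀ b : B, ∃ n σ, σ ∈ U9 ∧ π b = σ ∧ mat b.1 = monM (evv n) σ := by
    intro b
    obtain ⟨c, σ, hσ, hcne, -, e⟩ := hB b.2
    obtain ⟨p, rfl⟩ := exists_dd hcne (prod_of_mat e)
    exact ⟨expv p, σ, hσ, monPerm_eq _ e, e⟩
  have hrange : π.range ≤ U9 := by
    rintro _ ⟨b, rfl⟩
    obtain ⟨n, σ, hσ, h1, -⟩ := hmat b
    rw [h1]; exact hσ
  have hkerT : ∀ b : π.ker, ∃ p, b.1.1 = dd p := by
    rintro ⟨b, hb⟩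
    obtain ⟨c, σ, hσ, hcne, -, e⟩ := hB b.2
    obtain ⟨p, rfl⟩ := exists_dd hcne (prod_of_mat e)
    have : σ = 1 := (monPerm_eq _ e).symm.trans hb
    subst this
    exact ⟨p, mat_injective e⟩
  choose P hP using hkerT
  have hPinj : Function.Injective P := fun a b h =>
    Subtype.ext (Subtype.ext (by rw [hP a, hP b, h]))
  have hcount : ∀ (σ ρ : Equiv.Perm (Fin 6)), σ ∈ π.range → ρ ∈ π.range →
      Nat.card π.ker ≤ fixCount σ ρ := by
    intro σ ρ hσ hρ
    have hfix : ∀ τ ∈ π.range, ∀ (k : π.ker) i, expv (P k) (τ⁻¹ i) = expv (P k) i := by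
      rintro _ ⟨b, rfl⟩ k i
      obtain ⟨n, τ, hτ, h1, e⟩ := hmat b
      have hk : mat k.1.1 = monM (evv (expv (P k))) 1 := by rw [hP k]; rfl
      have h := congrArg mat (hc _ b.2 _ k.1.2)
      rw [mat_mul_evv e hk, mat_mul_evv hk e] at h
      have := congrFun (evv_inj (monM_injective (evv_ne _) h).1) i
      rw [h1]
      simp only [inv_one, Equiv.Perm.one_apply] at this
      rw [add_comm (expv (P k) i)] at this
      exact add_left_cancel this
    haveI : Fintype π.ker := Fintype.ofFinite _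
    rw [Nat.card_eq_fintype_card, ← Finset.card_univ]
    refine le_trans ?_ (le_of_eq (rfl : _ = fixCount σ ρ))
    refine Finset.card_le_card_of_injOn P (fun k _ => ?_) hPinj.injOn
    exact Finset.mem_filter.2 ⟨Finset.mem_univ _, fun i => ⟨hfix σ hσ k i, hfix ρ hρ k i⟩⟩
  have hr9 : Nat.card π.range ∣ 9 := card_U9 ▸ Subgroup.card_dvd_of_le hrange
  have hne1 : ∃ τ ∈ π.range, τ ≠ 1 := by
    by_contra h
    push Not at h
    refine hne (Subgroup.eq_of_le_of_card_ge ?_ (by rw [hcard, card_T]))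
    intro b hb
    obtain ⟨n, σ, -, h1, e⟩ := hmat ⟨b, hb⟩
    exact ⟨evv n, σ, Subgroup.mem_bot.2 (h1.symm.trans (h _ ⟨⟨b, hb⟩, rfl⟩)), evv_ne n, trivial, e⟩
  obtain ⟨τ, hτ, hτ1⟩ := hne1
  obtain ⟨a, b, hab⟩ := hrange hτ
  have h27 : Nat.card π.ker ≤ 27 := by
    refine (hcount τ τ hτ hτ).trans ?_
    rcases fixCount_le a b with ⟨rfl, rfl⟩ | h
    · exact absurd (by simpa using hab) hτ1
    · rw [hab]; exact h
  by_cases hfull : Nat.card π.range = 9
  · have e : π.range = U9 := Subgroup.eq_of_le_of_card_ge hrange (by rw [hfull, card_U9])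
    have := (hcount u1 u2 (e ▸ u1_mem) (e ▸ u2_mem)).trans fixCount_u
    nlinarith
  · have h3 : Nat.card π.range ≤ 3 := by
      have hmem : Nat.card π.range ∈ Nat.divisors 9 := Nat.mem_divisors.2 ⟨hr9, by norm_num⟩
      rw [show Nat.divisors 9 = {1, 3, 9} from by decide] at hmem
      simp only [Finset.mem_insert, Finset.mem_singleton] at hmem
      omega
    nlinarith

/-! ### The subgroup of index three -/

/-- The exponents of `z₁`. -/
def zvec : Fin 6 → Fin 3 := ![1, 1, 1, 0, 0, 0]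

/-- The parameters of the coordinate pair straddling the blocks. -/
def tpar (i : Fin 3) : Fin 5 → Fin 3 := Pi.single 2 i

/-- The exponent vectors forced by a pure permutation. -/
def spanA (σ : Equiv.Perm (Fin 6)) : Finset (Fin 6 → Fin 3) :=
  (Finset.univ : Finset (Fin 3 × Fin 3 × Fin 3 × Fin 3 × Fin 3 × Fin 3)).image fun q => fun i =>
    expv ![q.1, q.2.1, q.2.2.1, q.2.2.2.1, q.2.2.2.2.1] i -
      expv ![q.1, q.2.1, q.2.2.1, q.2.2.2.1, q.2.2.2.2.1] (σ⁻¹ i) + q.2.2.2.2.2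

/-- The commutator exponents of twisted three-cycles. -/
def wvec (i j : Fin 3) : Fin 6 → Fin 3 := fun x =>
  expv (tpar i) x + expv (tpar j) (u1⁻¹ x) - expv (tpar j) x - expv (tpar i) (u2⁻¹ x)

/-- The exponent vectors forced by twisted three-cycles. -/
def spanB (i j : Fin 3) : Finset (Fin 6 → Fin 3) :=
  (Finset.univ : Finset (Fin 3 × Fin 3 × Fin 3)).image fun q => fun x =>
    q.1 * wvec i j x + q.2.1 * zvec x + q.2.2

theorem spanA_card : ∀ a b : Fin 3, a = 0 ∧ b = 0 ∨ 9 < (spanA (u1 ^ a.1 * u2 ^ b.1)).card := by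
  decide +kernel

theorem spanB_card : ∀ i j : Fin 3, i = 0 ∧ j = 0 ∨ 9 < (spanB i j).card := by decide +kernel

theorem single_comm : ∀ k : Fin 5, k ≠ 2 → ∀ m : Fin 3, ∃ a b c d e : Fin 3, ∃ u : Bool, ∀ i,
    expv (Pi.single k m) i = expv ![a, b, c, d, e] i -
      expv ![a, b, c, d, e] ((if u then u1 else u2)⁻¹ i) := by decide +kernel

theorem z_comm : ∀ i : Fin 6,
    zvec i = expv ![0, 1, 0, 0, 0] i - expv ![0, 1, 0, 0, 0] (u1⁻¹ i) := by decide +kernel

theorem tpar_add : ∀ i j : Fin 3, tpar (i + j) = tpar i + tpar j := fun i j => Pi.single_add _ _ _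

theorem S_elt {x : G6} (hx : x ∈ S) : ∃ p σ, σ ∈ U9 ∧ x = dd p * permS σ := by
  obtain ⟨c, σ, hσ, hc, -, e⟩ := hx
  obtain ⟨p, rfl⟩ := exists_dd hc (prod_of_mat e)
  refine ⟨p, σ, hσ, mat_injective ?_⟩
  rw [e, mat_mul, mat_dd, mat_permS, monM_mul, one_mul]
  congr 1
  funext i
  simp [evv]

theorem dd_mem_S (p : Fin 5 → Fin 3) : dd p ∈ S := T_le_S (mem_T_iff.2 ⟨p, rfl⟩)

theorem permS_mem_S {σ : Equiv.Perm (Fin 6)} (h : σ ∈ U9) : permS σ ∈ S :=
  ⟨1, σ, h, fun _ => one_ne_zero, trivial, rfl⟩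

/-- A subgroup of index three in the Sylow subgroup with small derived subgroup modulo scalars. -/
theorem eq_R {M : Subgroup G6} (hM : M ≤ S) (hcard : Nat.card M = 729) (W : Subgroup G6)
    (hW : Nat.card W ≤ 9) (hZ : Zs ≤ W) (hcomm : ∀ a ∈ M, ∀ b ∈ M, a * b * (b * a)⁻¹ ∈ W) :
    M = R := by
  classical
  haveI : Fact (Nat.Prime 3) := ⟨by norm_num⟩
  let M' := M.subgroupOf S
  have hi : M'.index = 3 := by
    have h := M'.card_mul_index
    rw [Nat.card_congr (Subgroup.subgroupOfEquivOfLe hM).toEquiv, hcard, card_S] at h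
    omega
  haveI : M'.Normal := by
    refine Subgroup.normal_of_index_eq_minFac_card ?_
    rw [hi, card_S]
    norm_num
  have hquot : Nat.card (S ⧸ M') = 3 := hi
  haveI : IsCyclic (S ⧸ M') := isCyclic_of_prime_card hquot
  have hder : ∀ x y : G6, x ∈ S → y ∈ S → x * y * (y * x)⁻¹ ∈ M := by
    intro x y hx hy
    have : (⟨x, hx⟩ * ⟨y, hy⟩ * (⟨y, hy⟩ * ⟨x, hx⟩)⁻¹ : S) ∈ M' := by
      rw [← QuotientGroup.eq_one_iff]
      letI := IsCyclic.commGroup (α := S ⧸ M')
      simp only [QuotientGroup.mk_mul, QuotientGroup.mk_inv]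
      rw [mul_inv_eq_one]
      exact mul_comm _ _
    exact this
  let V : Set (Fin 6 → Fin 3) := {n | ∃ x ∈ W, mat x = monM (evv n) 1}
  have hVadd : ∀ n m, n ∈ V → m ∈ V → n + m ∈ V := by
    rintro n m ⟨x, hx, ex⟩ ⟨y, hy, ey⟩
    refine ⟨x * y, mul_mem hx hy, ?_⟩
    rw [mat_mul_evv ex ey, one_mul]
    congr 1
  have hVconst : ∀ k : Fin 3, (fun _ => k) ∈ V := by
    intro k
    have hp : ∏ _i : Fin 6, ev k = 1 := by revert k; decide +kernel
    exact ⟨monS (fun _ => ev k) 1 (fun _ => ev_ne k) hp,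
      hZ ⟨_, 1, one_mem _, fun _ => ev_ne k, fun _ => rfl, rfl⟩, rfl⟩
  have hVmul : ∀ n, n ∈ V → ∀ k : Fin 3, (fun i => k * n i) ∈ V := by
    intro n hn k
    fin_cases k
    · have := hVconst 0
      simpa using this
    · simpa using hn
    · have := hVadd n n hn hn
      refine (congrArg (· ∈ V) (funext fun i => ?_)).mp this
      show n i + n i = 2 * n i
      exact (show ∀ a : Fin 3, a + a = 2 * a by decide) (n i)
  have hVsmall : ∀ F : Finset (Fin 6 → Fin 3), (∀ n ∈ F, n ∈ V) → F.card ≤ 9 := by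
    intro F hF
    refine le_trans ?_ hW
    rw [← Nat.card_eq_finsetCard F]
    refine Nat.card_le_card_of_injective
      (fun n : F => (⟨(hF n.1 n.2).choose, (hF n.1 n.2).choose_spec.1⟩ : W)) fun a b h => ?_
    have ha := (hF a.1 a.2).choose_spec.2
    have hb := (hF b.1 b.2).choose_spec.2
    have e : mat (hF a.1 a.2).choose = mat (hF b.1 b.2).choose := congrArg (fun z : W => mat z.1) h
    exact Subtype.ext (evv_inj (monM_injective (evv_ne _) (ha.symm.trans (e.trans hb))).1)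
  have hcoV : ∀ {x y : G6} {n m : Fin 6 → Fin 3} {σ ρ : Equiv.Perm (Fin 6)}, x ∈ M → y ∈ M →
      mat x = monM (evv n) σ → mat y = monM (evv m) ρ → σ * ρ = ρ * σ →
      (fun i => n i + m (σ⁻¹ i) - m i - n (ρ⁻¹ i)) ∈ V :=
    fun hx hy ex ey hc => ⟨_, hcomm _ hx _ hy, comm_mat ex ey hc⟩
  -- the diagonal part of `R`
  have hsingle : ∀ k : Fin 5, k ≠ 2 → ∀ m : Fin 3, dd (Pi.single k m) ∈ M := by
    intro k hk m
    obtain ⟨a, b, c, d, e, u, hu⟩ := single_comm k hk m
    have hmem : (if u then u1 else u2) ∈ U9 := by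
      cases u
      · exact u2_mem
      · exact u1_mem
    have h := hder _ _ (dd_mem_S ![a, b, c, d, e]) (permS_mem_S hmem)
    have e' := comm_mat (mat_dd ![a, b, c, d, e]) (mat_permS' (if u then u1 else u2))
      (by rw [one_mul, mul_one])
    have : dd (Pi.single k m) =
        dd ![a, b, c, d, e] * permS (if u then u1 else u2) *
          (permS (if u then u1 else u2) * dd ![a, b, c, d, e])⁻¹ := mat_injective (by
      rw [e', mat_dd]
      congr 2
      funext i
      rw [hu i]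
      simp)
    rw [this]; exact h
  have hdiag : ∀ q : Fin 5 → Fin 3, q 2 = 0 → dd q ∈ M := by
    intro q hq
    let s : Fin 5 → Fin 5 → Fin 3 := fun k => Pi.single k (q k)
    have e : q = s 0 + s 1 + s 3 + s 4 := by
      simp only [s]
      funext i
      fin_cases i <;> simp
      exact hq
    rw [e, dd_add, dd_add, dd_add]
    exact mul_mem (mul_mem (mul_mem (hsingle 0 (by decide) _) (hsingle 1 (by decide) _))
      (hsingle 3 (by decide) _)) (hsingle 4 (by decide) _)
  by_cases ht : dd (tpar 1) ∈ M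
  · exfalso
    have hTM : ∀ p, dd p ∈ M := by
      intro p
      have h2 : dd (tpar (p 2)) ∈ M := by
        have : ∀ i : Fin 3, dd (tpar i) ∈ M := by
          intro i
          fin_cases i
          · show dd (Pi.single 2 0) ∈ M
            rw [Pi.single_zero, dd_zero]; exact one_mem _
          · exact ht
          · show dd (tpar (1 + 1)) ∈ M
            rw [tpar_add, dd_add]; exact mul_mem ht ht
        exact this _
      have hq := hdiag (p - tpar (p 2)) (by simp [tpar])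
      have := mul_mem hq h2
      rwa [← dd_add, sub_add_cancel] at this
    obtain ⟨x, hx, hxT⟩ : ∃ x ∈ M, x ∉ T := by
      by_contra h
      push Not at h
      have := Subgroup.card_le_of_le (fun x hx => h x hx : M ≤ T)
      rw [hcard, card_T] at this
      omega
    obtain ⟨p, σ, hσ, rfl⟩ := S_elt (hM hx)
    have hσM : permS σ ∈ M := by
      have := mul_mem (inv_mem (hTM p)) hx
      rwa [inv_mul_cancel_left] at this
    obtain ⟨a, b, rfl⟩ := hσ
    rcases spanA_card a b with ⟨rfl, rfl⟩ | hbig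
    · exact hxT (by simpa using mem_T_iff.2 ⟨p, rfl⟩)
    refine not_le.2 hbig (hVsmall _ fun n hn => ?_)
    obtain ⟨⟨q0, q1, q2, q3, q4, k⟩, -, rfl⟩ := Finset.mem_image.1 hn
    have h1 := hcoV (hTM ![q0, q1, q2, q3, q4]) hσM (mat_dd _) (mat_permS' _)
      (by rw [one_mul, mul_one])
    refine hVadd _ _ ?_ (hVconst k)
    refine (congrArg (· ∈ V) (funext fun i => ?_)).mp h1
    simp
  · have hcos : ∀ x ∈ S, ∃ i : Fin 3, dd (tpar i) * x ∈ M := by
      intro x hx
      have hgen : ∀ i : Fin 3, dd (tpar i) ∈ S := fun i => dd_mem_S _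
      let φ : Fin 3 → S ⧸ M' := fun i => QuotientGroup.mk (⟨dd (tpar i), hgen i⟩ : S)
      have hinj : Function.Injective φ := by
        intro i j h
        have h' : (⟨dd (tpar i), hgen i⟩ : S)⁻¹ * ⟨dd (tpar j), hgen j⟩ ∈ M' :=
          QuotientGroup.eq.1 h
        have h'' : (dd (tpar i))⁻¹ * dd (tpar j) ∈ M := h'
        have e : dd (tpar j) = dd (tpar i) * dd (tpar (j - i)) := by
          rw [← dd_add, ← tpar_add, add_sub_cancel]
        rw [e, inv_mul_cancel_left] at h''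
        by_contra hij
        apply ht
        have hcases : j - i = 1 ∨ j - i = 2 := by
          have : j - i ≠ 0 := fun hz => hij (sub_eq_zero.1 hz).symm
          revert this
          generalize j - i = d
          revert d
          decide
        rcases hcases with hd | hd <;> rw [hd] at h''
        · exact h''
        · have := mul_mem h'' h''
          rwa [← dd_add, ← tpar_add] at this
      haveI : Finite (S ⧸ M') := Nat.finite_of_card_ne_zero (by rw [hquot]; omega)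
      have hsurj : Function.Surjective φ :=
        ((Nat.bijective_iff_injective_and_card φ).2 ⟨hinj, by rw [hquot, Nat.card_fin]⟩).2
      obtain ⟨i, hi'⟩ := hsurj (QuotientGroup.mk (⟨x, hx⟩ : S))⁻¹
      refine ⟨i, ?_⟩
      have : (⟨dd (tpar i), hgen i⟩ : S) * ⟨x, hx⟩ ∈ M' := by
        rw [← QuotientGroup.eq_one_iff, QuotientGroup.mk_mul]
        rw [show (QuotientGroup.mk (⟨dd (tpar i), hgen i⟩ : S) : S ⧸ M') = _ from hi', inv_mul_cancel]
      exact this
    obtain ⟨i, hi1⟩ := hcos _ (permS_mem_S u1_mem)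
    obtain ⟨j, hj1⟩ := hcos _ (permS_mem_S u2_mem)
    have ex : mat (dd (tpar i) * permS u1) = monM (evv (expv (tpar i))) u1 := by
      rw [mat_mul_evv (mat_dd _) (mat_permS' _), one_mul]
      congr 2
      funext a
      simp
    have ey : mat (dd (tpar j) * permS u2) = monM (evv (expv (tpar j))) u2 := by
      rw [mat_mul_evv (mat_dd _) (mat_permS' _), one_mul]
      congr 2
      funext a
      simp
    have hw : wvec i j ∈ V := hcoV hi1 hj1 ex ey (U9_comm u1_mem u2_mem)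
    have hz : zvec ∈ V := by
      have h1 := hcoV (hdiag ![0, 1, 0, 0, 0] rfl) hi1 (mat_dd _) ex (by rw [one_mul, mul_one])
      refine (congrArg (· ∈ V) (funext fun a => ?_)).mp h1
      rw [z_comm a]
      simp
    rcases spanB_card i j with ⟨rfl, rfl⟩ | hbig
    · symm
      refine Subgroup.eq_of_le_of_card_ge ?_ (by rw [hcard, card_R])
      intro x hx
      obtain ⟨c, σ, hσ, hc, hb, e⟩ := hx
      obtain ⟨p, rfl⟩ := exists_dd hc (prod_of_mat e)
      have hx' : x = dd p * permS σ := mat_injective (by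
        rw [e, mat_mul, mat_dd, mat_permS, monM_mul, one_mul]
        congr 1
        funext a
        simp [evv])
      have h0 : dd (tpar 0) = 1 := by rw [tpar, Pi.single_zero, dd_zero]
      rw [h0, one_mul] at hi1 hj1
      obtain ⟨a, b, rfl⟩ := hσ
      rw [hx', map_mul, map_pow, map_pow]
      exact mul_mem (hdiag p ((blockOne_iff p).1 hb)) (mul_mem (pow_mem hi1 _) (pow_mem hj1 _))
    · exfalso
      refine not_le.2 hbig (hVsmall _ fun n hn => ?_)
      obtain ⟨⟨a, b, k⟩, -, rfl⟩ := Finset.mem_image.1 hn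
      exact hVadd _ _ (hVadd _ _ (hVmul _ hw a) (hVmul _ hz b)) (hVconst k)

end Cfsg.Agent.Lib.U43InU62
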