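import Cfsg.Agent.Lib.U43InU62.Cover
import Mathlib.GroupTheory.Sylow

/-! Every cover is conjugate to one of the three models, and these are not conjugate to each other. -/

set_option autoImplicit false
set_option maxRecDepth 20000
set_option Elab.async false

namespace Cfsg.Agent.Lib.U43InU62

open Cfsg Matrix

theorem Zs_le_H : Zs ≤ H := Zs_le_T.trans T_le_H

theorem Zs_le_R : Zs ≤ R := fun _ ⟨c, σ, hσ, hc, hq, e⟩ =>
  ⟨c, σ, by rw [Subgroup.mem_bot.1 hσ]; exact one_mem _, hc, by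
    have hcube : ∀ a : K4, a ≠ 0 → a * a * a = 1 := by decide +kernel
    show c 0 * c 1 * c 2 = 1
    rw [hq 1, hq 2]; exact hcube _ (hc 0), e⟩

theorem T_normal_Mon {x t : G6} (hx : x ∈ Mon) (ht : t ∈ T) : x * t * x⁻¹ ∈ T := by
  obtain ⟨c, σ, -, hc, -, ex⟩ := hx
  obtain ⟨p, rfl⟩ := mem_T_iff.1 ht
  have hd : ∀ i, ev (expv p (σ⁻¹ i)) ≠ 0 := fun i => ev_ne _
  have hp : ∏ i, ev (expv p (σ⁻¹ i)) = 1 := by
    rw [Equiv.prod_comp σ⁻¹ fun i => ev (expv p i)]; exact expv_prod p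
  refine ⟨_, 1, one_mem _, hd, trivial, ?_⟩
  have e : x * dd p = monS _ 1 hd hp * x := mat_injective (by
    rw [mat_mul, mat_mul, ex, mat_monS, dd, mat_monS, monM_mul, monM_mul, mul_one, one_mul]
    congr 1
    funext i
    simp [mul_comm])
  rw [e, mul_inv_cancel_right]
  rfl

theorem g1_not_Mon : g1 ∉ Mon := by
  intro h
  obtain ⟨i, t, e⟩ := (mapsFrame_zero_iff.2 h) 0
  rw [show mat g1 = gmat 3 from mat_gS 3, mulVec_eq6] at e
  have key : ∀ i : Fin 6, ∀ t : K4, ∃ x, mv6 (gmat 3) (fv (0 : Fin 112) (0 : Fin 6)) x ≠ t * fv (0 : Fin 112) i x := by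
    decide +kernel
  obtain ⟨x, hx⟩ := key i t
  exact hx (by simpa using congrFun e x)

theorem g1_conj_gens : ∀ i j : Fin 6,
    en (mm6 (gmat 3) (monM (evv (expv ![1, 0, 0, 0, 0])) 1)) i j =
      en (mm6 (monM (evv (expv ![1, 2, 0, 0, 0])) u1) (gmat 3)) i j ∧
    en (mm6 (gmat 3) (monM (evv (expv ![0, 1, 0, 0, 0])) 1)) i j =
      en (mm6 (monM (evv (expv ![0, 0, 0, 0, 0])) u1) (gmat 3)) i j ∧
    en (mm6 (gmat 3) (monM (evv (expv ![0, 0, 0, 1, 0])) 1)) i j =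
      en (mm6 (monM (evv (expv ![0, 0, 0, 1, 2])) (u2 * u2)) (gmat 3)) i j ∧
    en (mm6 (gmat 3) (monM (evv (expv ![0, 0, 0, 0, 1])) 1)) i j =
      en (mm6 (monM (evv (expv ![0, 0, 0, 0, 0])) (u2 * u2)) (gmat 3)) i j ∧
    en (mm6 (gmat 3) (monM (evv 0) u1)) i j =
      en (mm6 (monM (evv (expv ![1, 1, 0, 0, 0])) 1) (gmat 3)) i j ∧
    en (mm6 (gmat 3) (monM (evv 0) u2)) i j =
      en (mm6 (monM (evv (expv ![0, 0, 0, 0, 1])) 1) (gmat 3)) i j := by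
  decide +kernel

theorem R_elt_mem {x : G6} {p : Fin 5 → Fin 3} {σ : Equiv.Perm (Fin 6)} (hσ : σ ∈ U9)
    (hp : p 2 = 0) (e : mat x = monM (evv (expv p)) σ) : x ∈ R :=
  ⟨_, σ, hσ, evv_ne _, (blockOne_iff p).2 hp, e⟩

theorem g1_norm_R {r : G6} (hr : r ∈ R) : g1 * r * g1⁻¹ ∈ R := by
  let Y : Subgroup G6 := R.comap (MulAut.conj g1).toMonoidHom
  suffices h : R ≤ Y by simpa [Y] using h hr
  have hg : mat g1 = gmat 3 := mat_gS 3
  have key : ∀ {x : G6} {n : Fin 6 → Fin 3} {σ : Equiv.Perm (Fin 6)} {p : Fin 5 → Fin 3}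
      {ρ : Equiv.Perm (Fin 6)}, mat x = monM (evv n) σ →
      (∀ i j : Fin 6, en (mm6 (gmat 3) (monM (evv n) σ)) i j =
        en (mm6 (monM (evv (expv p)) ρ) (gmat 3)) i j) →
      ρ ∈ U9 → p 2 = 0 → x ∈ Y := by
    intro x n σ p ρ ex he hρ hp
    refine R_elt_mem hρ hp (x := g1 * x * g1⁻¹) ?_
    rw [mat_mul, mat_mul, hg, ex, mul_eq6 (gmat 3), eq_of_en he, ← mul_eq6, ← hg, Matrix.mul_assoc,
      mat_mul_inv, Matrix.mul_one]
  have k0 : dd (Pi.single 0 1) ∈ Y := key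
    (by rw [show (Pi.single 0 1 : Fin 5 → Fin 3) = ![1, 0, 0, 0, 0] from by decide]; exact mat_dd _)
    (fun i j => (g1_conj_gens i j).1) u1_mem rfl
  have k1 : dd (Pi.single 1 1) ∈ Y := key
    (by rw [show (Pi.single 1 1 : Fin 5 → Fin 3) = ![0, 1, 0, 0, 0] from by decide]; exact mat_dd _)
    (fun i j => (g1_conj_gens i j).2.1) u1_mem rfl
  have k3 : dd (Pi.single 3 1) ∈ Y := key
    (by rw [show (Pi.single 3 1 : Fin 5 → Fin 3) = ![0, 0, 0, 1, 0] from by decide]; exact mat_dd _)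
    (fun i j => (g1_conj_gens i j).2.2.1) (mul_mem u2_mem u2_mem) rfl
  have k4 : dd (Pi.single 4 1) ∈ Y := key
    (by rw [show (Pi.single 4 1 : Fin 5 → Fin 3) = ![0, 0, 0, 0, 1] from by decide]; exact mat_dd _)
    (fun i j => (g1_conj_gens i j).2.2.2.1) (mul_mem u2_mem u2_mem) rfl
  have k5 : permS u1 ∈ Y :=
    key (mat_permS' u1) (fun i j => (g1_conj_gens i j).2.2.2.2.1) (one_mem _) rfl
  have k6 : permS u2 ∈ Y :=
    key (mat_permS' u2) (fun i j => (g1_conj_gens i j).2.2.2.2.2) (one_mem _) rfl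
  have hs : ∀ k : Fin 5, dd (Pi.single k 1) ∈ Y → ∀ m : Fin 3, dd (Pi.single k m) ∈ Y := by
    intro k hk m
    fin_cases m
    · simp [dd_zero]
    · exact hk
    · show dd (Pi.single k (1 + 1)) ∈ Y
      rw [Pi.single_add, dd_add]
      exact mul_mem hk hk
  intro x hx
  obtain ⟨c, σ, hσ, hc, hb, e⟩ := hx
  obtain ⟨p, rfl⟩ := exists_dd hc (prod_of_mat e)
  have hp : p 2 = 0 := (blockOne_iff p).1 hb
  have hx' : x = dd p * permS σ := mat_injective (by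
    rw [e, mat_mul, mat_dd, mat_permS, monM_mul, one_mul]
    congr 1
    funext a
    simp [evv])
  obtain ⟨a, b, rfl⟩ := hσ
  let s : Fin 5 → Fin 5 → Fin 3 := fun k => Pi.single k (p k)
  have ep : p = s 0 + s 1 + s 3 + s 4 := by
    simp only [s]
    funext i
    fin_cases i <;> simp
    exact hp
  rw [hx', map_mul, map_pow, map_pow, ep, dd_add, dd_add, dd_add]
  exact mul_mem (mul_mem (mul_mem (mul_mem (hs 0 k0 _) (hs 1 k1 _)) (hs 3 k3 _)) (hs 4 k4 _))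
    (mul_mem (pow_mem k5 _) (pow_mem k6 _))

/-- Block constant diagonal elements. -/
def W0 : Subgroup G6 :=
  monSub ⊥ (fun c => c 1 = c 0 ∧ c 2 = c 0 ∧ c 4 = c 3 ∧ c 5 = c 3) ⟨rfl, rfl, rfl, rfl⟩
    fun c d σ hσ hc hd => by
      obtain rfl : σ = 1 := Subgroup.mem_bot.1 hσ
      simp only [inv_one, Equiv.Perm.one_apply]
      exact ⟨by rw [hc.1, hd.1], by rw [hc.2.1, hd.2.1], by rw [hc.2.2.1, hd.2.2.1],
        by rw [hc.2.2.2, hd.2.2.2]⟩

theorem card_W0 : Nat.card W0 ≤ 9 := by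
  refine le_trans ((card_monSub ⊥ _ _ _).trans_le ?_) le_rfl
  rw [Subgroup.card_bot, one_mul]
  have h9 : Nat.card ({a : K4 // a ≠ 0} × {a : K4 // a ≠ 0}) = 9 := by
    rw [Nat.card_eq_fintype_card]; decide +kernel
  rw [← h9]
  refine Nat.card_le_card_of_injective (fun c => (⟨c.1 0, c.2.1 0⟩, ⟨c.1 3, c.2.1 3⟩))
    fun a b h => ?_
  obtain ⟨h0, h3⟩ := Prod.ext_iff.1 h
  have e0 : a.1 0 = b.1 0 := congrArg Subtype.val h0
  have e3 : a.1 3 = b.1 3 := congrArg Subtype.val h3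
  obtain ⟨-, -, a1, a2, a4, a5⟩ := a.2
  obtain ⟨-, -, b1, b2, b4, b5⟩ := b.2
  refine Subtype.ext (funext fun i => ?_)
  fin_cases i
  exacts [e0, by simp [a1, b1, e0], by simp [a2, b2, e0], e3, by simp [a4, b4, e3],
    by simp [a5, b5, e3]]

theorem block_const : ∀ a b : Fin 3, ∀ p0 p1 p3 p4 : Fin 3,
    let n := fun i => expv ![p0, p1, 0, p3, p4] i -
      expv ![p0, p1, 0, p3, p4] ((u1 ^ a.1 * u2 ^ b.1)⁻¹ i)
    n 1 = n 0 ∧ n 2 = n 0 ∧ n 4 = n 3 ∧ n 5 = n 3 := by decide +kernel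

theorem R_comm {x y : G6} (hx : x ∈ R) (hy : y ∈ R) : x * y * (y * x)⁻¹ ∈ W0 := by
  obtain ⟨c, σ, hσ, hc, hb, ex⟩ := hx
  obtain ⟨p, rfl⟩ := exists_dd hc (prod_of_mat ex)
  obtain ⟨d, ρ, hρ, hd, hb', ey⟩ := hy
  obtain ⟨q, rfl⟩ := exists_dd hd (prod_of_mat ey)
  have ex' : mat x = monM (evv (expv p)) σ := ex
  have ey' : mat y = monM (evv (expv q)) ρ := ey
  refine ⟨_, 1, one_mem _, evv_ne _, ?_, comm_mat ex' ey' (U9_comm hσ hρ)⟩
  obtain ⟨a, b, rfl⟩ := hσ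
  obtain ⟨c', d', rfl⟩ := hρ
  have hp : p = ![p 0, p 1, 0, p 3, p 4] := by
    funext i; fin_cases i <;> simp
    exact (blockOne_iff p).1 hb
  have hq : q = ![q 0, q 1, 0, q 3, q 4] := by
    funext i; fin_cases i <;> simp
    exact (blockOne_iff q).1 hb'
  obtain ⟨P1, P2, P4, P5⟩ := block_const c' d' (p 0) (p 1) (p 3) (p 4)
  obtain ⟨Q1', Q2', Q4', Q5'⟩ := block_const a b (q 0) (q 1) (q 3) (q 4)
  rw [← hp] at P1 P2 P4 P5
  rw [← hq] at Q1' Q2' Q4' Q5'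
  have hlin : ∀ a b c d a' b' c' d' : Fin 3, a - b = a' - b' → c - d = c' - d' →
      a + d - c - b = a' + d' - c' - b' := by
    intro a b c d a' b' c' d' h1 h2
    calc a + d - c - b = (a - b) - (c - d) := by abel
      _ = (a' - b') - (c' - d') := by rw [h1, h2]
      _ = a' + d' - c' - b' := by abel
  simp only [evv]
  exact ⟨congrArg ev (hlin _ _ _ _ _ _ _ _ P1 Q1'), congrArg ev (hlin _ _ _ _ _ _ _ _ P2 Q2'),
    congrArg ev (hlin _ _ _ _ _ _ _ _ P4 Q4'), congrArg ev (hlin _ _ _ _ _ _ _ _ P5 Q5')⟩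

namespace Cover

variable {K : Subgroup G6}

theorem Zs_le_W0 : Zs ≤ W0 := fun _ ⟨c, σ, hσ, hc, hq, e⟩ =>
  ⟨c, σ, hσ, hc, ⟨hq 1, hq 2, (hq 4).trans (hq 3).symm, (hq 5).trans (hq 3).symm⟩, e⟩

theorem W0_le_K1 : W0 ≤ K1 := fun _ ⟨c, σ, hσ, hc, _, e⟩ =>
  H_le_K1 (T_le_H ⟨c, σ, hσ, hc, trivial, e⟩)

theorem exists_conj_T (C : Cover K) : ∃ g : G6, (C.conj g).pre T = T := by
  obtain ⟨g, hg⟩ := conj_to_T (C.pre T)
    ((C.card_pre Zs_le_T (T_le_H.trans H_le_K1)).trans card_T)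
    C.pre_T_elementary.1 C.pre_T_elementary.2
  exact ⟨g, (C.pre_conj g T).trans hg⟩

theorem pre_T_norm {C : Cover K} (hT : C.pre T = T) {n : G6} (hn : n ∈ C.pre H) : n ∈ Mon := by
  refine mem_Mon_of_normalizes fun t ht => ?_
  obtain ⟨hnK, y, hy, ey⟩ := C.mem_pre.1 hn
  rw [← hT] at ht ⊢
  obtain ⟨htK, x, hx, ex⟩ := C.mem_pre.1 ht
  refine C.mem_pre.2 ⟨mul_mem (mul_mem hnK htK) (inv_mem hnK), y * x * y⁻¹,
    T_normal_Mon (H_le_Mon hy) hx, ?_⟩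
  rw [show (⟨n * t * n⁻¹, mul_mem (mul_mem hnK htK) (inv_mem hnK)⟩ : K) =
    ⟨n, hnK⟩ * ⟨t, htK⟩ * ⟨n, hnK⟩⁻¹ from rfl, map_mul, map_mul, map_inv, ey, ex]
  rfl

theorem pre_H {C : Cover K} (hT : C.pre T = T) : C.pre H = H := by
  have hMon : C.pre H ≤ Mon := fun n hn => pre_T_norm hT hn
  have hTN : T ≤ C.pre H := by
    rw [← hT]
    intro a ha
    obtain ⟨h, x, hx, e⟩ := C.mem_pre.1 ha
    exact C.mem_pre.2 ⟨h, x, T_le_H hx, e⟩
  let π : C.pre H →* Equiv.Perm (Fin 6) := monPerm.comp (Subgroup.inclusion hMon)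
  have hker : π.ker = T.subgroupOf (C.pre H) := by
    ext x
    obtain ⟨c, σ, -, hc, -, e⟩ := hMon x.2
    have hσ : π x = σ := monPerm_eq _ e
    rw [MonoidHom.mem_ker, hσ, Subgroup.mem_subgroupOf]
    constructor
    · rintro rfl; exact ⟨c, 1, one_mem _, hc, trivial, e⟩
    · rintro ⟨d, ρ, hρ, -, -, e'⟩
      exact (monM_injective hc (e.symm.trans e')).2.trans (Subgroup.mem_bot.1 hρ)
  have hN : Nat.card (C.pre H) = 87480 := (C.card_pre Zs_le_H H_le_K1).trans card_H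
  have hk : Nat.card π.ker = 243 := by
    rw [hker, Nat.card_congr (Subgroup.subgroupOfEquivOfLe hTN).toEquiv, card_T]
  have hr : Nat.card π.range = 360 := by
    have h := π.ker.card_mul_index
    rw [Subgroup.index_ker, hk, hN] at h
    omega
  have hidx : π.range.index = 2 := by
    have h := π.range.card_mul_index
    rw [hr, Nat.card_perm, Nat.card_fin, show Nat.factorial 6 = 720 from rfl] at h
    omega
  have halt : π.range = alternatingGroup (Fin 6) :=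
    Equiv.Perm.eq_alternatingGroup_of_index_eq_two hidx
  refine Subgroup.eq_of_le_of_card_ge (fun x hx => ?_) (by rw [hN, card_H])
  obtain ⟨c, σ, -, hc, -, e⟩ := hMon hx
  refine ⟨c, σ, ?_, hc, trivial, e⟩
  rw [← halt]
  exact ⟨⟨x, hx⟩, monPerm_eq _ e⟩

theorem H_le {C : Cover K} (hT : C.pre T = T) : H ≤ K := pre_H hT ▸ C.pre_le H

theorem center_eq {C : Cover K} (hT : C.pre T = T) {z : K} :
    z ∈ Subgroup.center K ↔ (z : G6) ∈ Zs := by
  have h1 : ∀ {z : K}, z ∈ Subgroup.center K → (z : G6) ∈ Zs := fun {z} hz =>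
    mem_Zs_of_centralizes_H fun y hy =>
      congrArg Subtype.val (Subgroup.mem_center_iff.1 hz ⟨y, H_le hT hy⟩)
  have e : (Subgroup.center K).map K.subtype = Zs := by
    refine Subgroup.eq_of_le_of_card_ge ?_ ?_
    · rintro _ ⟨z, hz, rfl⟩; exact h1 hz
    · rw [Subgroup.card_map_of_injective K.subtype_injective, C.card_center, card_Zs]
  exact ⟨h1, fun hz => by
    rw [← e] at hz
    obtain ⟨w, hw, ew⟩ := hz
    exact (Subtype.ext ew : w = z) ▸ hw⟩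

theorem inf_Mon {C : Cover K} (hT : C.pre T = T) : K ⊓ Mon ≤ H := by
  rintro x ⟨hxK, hxM⟩
  obtain ⟨y, hy⟩ := QuotientGroup.mk_surjective (C.pr ⟨x, hxK⟩)
  have hyM : (y : G6) ∈ Mon := by
    refine mem_Mon_of_normalizes fun t ht => ?_
    have htK1 : t ∈ K1 := H_le_K1 (T_le_H ht)
    obtain ⟨a, ha⟩ := C.surj (QuotientGroup.mk (⟨t, htK1⟩ : K1))
    have haT : (a : G6) ∈ T := by
      rw [← hT]; exact C.mem_pre.2 ⟨a.2, ⟨t, htK1⟩, ht, ha⟩
    have h' : x * a * x⁻¹ ∈ C.pre T := by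
      rw [hT]; exact T_normal_Mon hxM haT
    obtain ⟨_, v, hv, hev⟩ := C.mem_pre.1 h'
    have e : (QuotientGroup.mk (y * ⟨t, htK1⟩ * y⁻¹) : Q1) = QuotientGroup.mk v := by
      rw [← hev, QuotientGroup.mk_mul, QuotientGroup.mk_mul, QuotientGroup.mk_inv, hy, ← ha,
        ← map_inv, ← map_mul, ← map_mul]
      rfl
    have hz := QuotientGroup.eq.1 e.symm
    rw [center_K1, Subgroup.mem_subgroupOf] at hz
    have := mul_mem hv (Zs_le_T hz)
    simpa using this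
  have := K1_inf_Mon ⟨y.2, hyM⟩
  rw [← pre_H hT]
  exact C.mem_pre.2 ⟨hxK, y, this, hy.symm⟩

theorem exists_conj_R (C : Cover K) (hT : C.pre T = T) :
    ∃ g : G6, (C.conj g).pre T = T ∧ (C.conj g).pre R ≤ S := by
  haveI : Fact (Nat.Prime 3) := ⟨by norm_num⟩
  have hRH : C.pre R ≤ H := by
    rw [← pre_H hT]
    intro a ha
    obtain ⟨h, x, hx, e⟩ := C.mem_pre.1 ha
    exact C.mem_pre.2 ⟨h, x, S_le_H (R_le_S hx), e⟩
  have hcard : Nat.card (C.pre R) = 729 :=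
    (C.card_pre Zs_le_R ((R_le_S.trans S_le_H).trans H_le_K1)).trans card_R
  have hP : IsPGroup 3 ((C.pre R).subgroupOf H) := by
    refine IsPGroup.of_card (n := 6) ?_
    rw [Nat.card_congr (Subgroup.subgroupOfEquivOfLe hRH).toEquiv, hcard]
    norm_num
  obtain ⟨P, hPle⟩ := hP.exists_le_sylow
  have hcS : Nat.card (S.subgroupOf H) = 2187 := by
    rw [Nat.card_congr (Subgroup.subgroupOfEquivOfLe S_le_H).toEquiv, card_S]
  let S' : Sylow 3 H := (IsPGroup.of_card (n := 7) (hcS.trans (by norm_num)) :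
    IsPGroup 3 (S.subgroupOf H)).toSylow (by
      have h := (S.subgroupOf H).card_mul_index
      rw [hcS, card_H] at h
      omega)
  obtain ⟨h, hh⟩ := MulAction.exists_smul_eq H P S'
  refine ⟨h.1, ?_, ?_⟩
  · rw [pre_conj, hT]
    refine Subgroup.eq_of_le_of_card_ge ?_ ?_
    · rintro _ ⟨t, ht, rfl⟩
      exact T_normal_Mon (H_le_Mon h.2) ht
    · rw [Subgroup.card_map_of_injective (f := (MulAut.conj h.1).toMonoidHom)
        (MulAut.conj h.1).injective]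
  · rw [pre_conj]
    rintro _ ⟨a, ha, rfl⟩
    have hm : h * ⟨a, hRH ha⟩ * h⁻¹ ∈ (h • P : Sylow 3 H).1 :=
      ⟨⟨a, hRH ha⟩, hPle (x := ⟨a, hRH ha⟩) ha, rfl⟩
    rw [hh] at hm
    exact hm

theorem pre_R {C : Cover K} (hT : C.pre T = T) (hS : C.pre R ≤ S) : C.pre R = R := by
  have hZ : Zs ≤ C.pre W0 := fun z hz => by
    have hzK : z ∈ K := H_le hT (Zs_le_H hz)
    exact C.center_mem_pre W0 (z := ⟨z, hzK⟩) ((center_eq hT).2 hz)
  refine eq_R hS ((C.card_pre Zs_le_R ((R_le_S.trans S_le_H).trans H_le_K1)).trans card_R)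
    (C.pre W0) ((C.card_pre Zs_le_W0 W0_le_K1).trans_le card_W0) hZ ?_
  · intro a ha b hb
    obtain ⟨hA, x, hx, ex⟩ := C.mem_pre.1 ha
    obtain ⟨hB, y, hy, ey⟩ := C.mem_pre.1 hb
    refine C.mem_pre.2 ⟨mul_mem (mul_mem hA hB) (inv_mem (mul_mem hB hA)),
      x * y * (y * x)⁻¹, R_comm hx hy, ?_⟩
    rw [show (⟨a * b * (b * a)⁻¹, mul_mem (mul_mem hA hB) (inv_mem (mul_mem hB hA))⟩ : K) =
      ⟨a, hA⟩ * ⟨b, hB⟩ * (⟨b, hB⟩ * ⟨a, hA⟩)⁻¹ from rfl, map_mul, map_mul, map_inv, map_mul, ex, ey]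
    rfl

end Cover

end Cfsg.Agent.Lib.U43InU62
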